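import Groth.Agent.EGA2.K34.ProjCrit
import Groth.Agent.Dix.IdealModCartier
import Groth.Agent.Divis.BlowChart2
import Groth.Agent.PerfA.IdealModule
import Groth.Agent.Flat2C.BlowProper

/-!
# Blow-ups of ideals of finite type are projective

`O(1)` is the inverse image ideal, `E` the ideal itself.
-/

set_option autoImplicit false
universe u
open CategoryTheory CategoryTheory.Limits AlgebraicGeometry TopologicalSpace Opposite

namespace K470.BlowProj

open K43.VADef K43.HomImm Groth.Agent.Fdesc.LocGen Groth.Agent.Ega2.Nv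
open Groth.Agent.Dix.IdealModCartier Groth.Agent.Divis.BlowChart2 BlowUp

variable {X X' : Scheme.{u}} (b : X' ⟶ X) (J : X.IdealSheafData)

theorem app_congr {Z Y : Scheme.{u}} {g h : Z ⟶ Y} (e : g = h) {U : Y.Opens} {a : Γ(Y, U)}
    (ha : h.app U a = 0) : g.app U a = 0 := by
  subst e
  exact ha

/-- The inverse image of a function vanishing on the centre vanishes on its inverse image. -/
theorem app_eq_zero (U : X.Opens) (a : Γ(X, U)) (ha : J.subschemeι.app U a = 0) :
    (J.comap b).subschemeι.app (b ⁻¹ᵁ U) (b.app U a) = 0 := by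
  have h1 : (Scheme.IdealSheafData.subschemeMap (J.comap b) J b
      (J.le_map_comap b) ≫ J.subschemeι).app U a = 0 := by
    rw [Scheme.Hom.comp_app]
    exact (congrArg ((Scheme.IdealSheafData.subschemeMap (J.comap b) J b
      (J.le_map_comap b)).app (J.subschemeι ⁻¹ᵁ U)).hom ha).trans (map_zero _)
  have h2 := app_congr (Scheme.IdealSheafData.subschemeMap_subschemeι (J.comap b) J b
    (J.le_map_comap b)).symm h1
  rw [Scheme.Hom.comp_app] at h2
  exact h2

/-- The inverse image of functions in the ideal. -/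
theorem exists_pull : ∃ φ : ClSub.idealMod J ⟶
    (Scheme.Modules.pushforward b).obj (ClSub.idealMod (J.comap b)),
    ∀ (U : X.Opens) (s : Γ(ClSub.idealMod J, U)),
      val (J.comap b) (U := b ⁻¹ᵁ U) (φ.app U s) = b.app U (val J s) := by
  let G := Scheme.Modules.pushforward b
  let f := ClSub.toSubscheme (J.comap b)
  have hlim : IsLimit ((KernelFork.ofι (kernel.ι f) (kernel.condition f)).map G) :=
    KernelFork.mapIsLimit _ (kernelIsKernel f) G
  have hw : (ClSub.idealModι J ≫ ClSub.unitToPush b) ≫ G.map f = 0 := by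
    ext U s
    exact app_eq_zero b J U (val J s)
      (Groth.Agent.Dix.IdealModSec.app_kernel_ι (ClSub.toSubscheme J) U s)
  obtain ⟨φ, hφ⟩ := KernelFork.IsLimit.lift' hlim (ClSub.idealModι J ≫ ClSub.unitToPush b) hw
  refine ⟨φ, fun U s => ?_⟩
  have h1 := congrArg (fun t => t.app U s) hφ
  exact h1

lemma exists_theta (hf : IsBlowUp b J) (U : X.affineOpens) {a : Γ(X, U.1)} (ha : a ∈ J.ideal U)
    {W : X'.Opens} (hW : W = chart b J U a) (hWU : W ≤ b ⁻¹ᵁ U.1) :
    IsAffineOpen W ∧ (b.appLE U.1 W hWU).hom a ∈ nonZeroDivisors Γ(X', W) ∧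
    ∃ θ : ↥(affineAlgebra Γ(X, U.1) (J.ideal U) a) ≃+* Γ(X', W),
      ∀ c : Γ(X, U.1), θ (algebraMap _ _ c) = (b.appLE U.1 W hWU).hom c := by
  subst hW
  exact ⟨isAffineOpen_chart b J U hf ha, appLE_chart_mem_nonZeroDivisors b J U hf ha,
    exists_ringEquiv_chart b J U hf ha⟩

variable {b J}

/-- The nonvanishing locus of a section of the ideal is the corresponding chart. -/
theorem nz_eq_chart (hb : IsBlowUp b J) {φ : ClSub.idealMod J ⟶
      (Scheme.Modules.pushforward b).obj (ClSub.idealMod (J.comap b))}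
    (hφ : ∀ (U : X.Opens) (s : Γ(ClSub.idealMod J, U)),
      val (J.comap b) (U := b ⁻¹ᵁ U) (φ.app U s) = b.app U (val J s))
    (U : X.affineOpens) (e : Γ(ClSub.idealMod J, U.1)) :
    nz b φ e = chart b J U (val J e) := by
  have ha : val J e ∈ J.ideal U := val_mem J U e
  have hval : ∀ {W : X'.Opens} (hW : W ≤ b ⁻¹ᵁ U.1),
      val (J.comap b) (res _ hW (se b φ e)) = (b.appLE U.1 W hW).hom (val J e) := by
    intro W hW
    rw [val_res]
    have : val (J.comap b) (se b φ e) = b.app U.1 (val J e) := hφ U.1 e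
    rw [this]
    rfl
  apply le_antisymm
  · intro x hx
    obtain ⟨W, hxW, hW⟩ := exists_affine_mem_le (nz b φ e) x hx
    have h1 := genOn_of_isGen ((isGen_nz b φ e).res hW) W le_rfl
    refine le_chart b J U (val J e) W (hW.trans (nz_le b φ e)) ?_ hxW
    rw [h1.2, res_res, hval]
    simp
  · have haff := isAffineOpen_chart b J U hb ha
    rw [nz, le_nv_iff _ _ (chart_le b J U _)]
    apply isGen_of_genOn
    have h1 := genOn_of_affine (D := J.comap b) (U := ⟨_, haff⟩)
      (appLE_chart_mem_nonZeroDivisors b J U hb ha) (ideal_chart b J U _ haff)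
    rw [hval]
    exact h1

theorem va (hb : IsBlowUp b J) {φ : ClSub.idealMod J ⟶
      (Scheme.Modules.pushforward b).obj (ClSub.idealMod (J.comap b))}
    (hφ : ∀ (U : X.Opens) (s : Γ(ClSub.idealMod J, U)),
      val (J.comap b) (U := b ⁻¹ᵁ U) (φ.app U s) = b.app U (val J s)) : VA b φ := by
  intro U hU x hx
  obtain ⟨a, ha, hxa⟩ := exists_mem_chart_of_span b J ⟨U, hU⟩ hb.1 (s := J.ideal ⟨U, hU⟩)
    (Ideal.span_eq _).symm x hx
  obtain ⟨e, rfl⟩ := exists_val_eq J ⟨U, hU⟩ ha
  have hnz := nz_eq_chart hb hφ ⟨U, hU⟩ e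
  refine ⟨e, by rw [hnz]; exact hxa, ?_⟩
  obtain ⟨haff, hreg, θ, hθ⟩ := exists_theta b J hb ⟨U, hU⟩ ha hnz (nz_le b φ e)
  have hval : ∀ t : Γ(ClSub.idealMod J, U),
      val (J.comap b) (res _ (nz_le b φ e) (se b φ t)) =
        (b.appLE U (nz b φ e) (nz_le b φ e)).hom (val J t) := by
    intro t
    rw [val_res]
    have : val (J.comap b) (se b φ t) = b.app U (val J t) := hφ U t
    rw [this]
    rfl
  have key : ∀ z : ↥(affineAlgebra Γ(X, U) (J.ideal ⟨U, hU⟩) (val J e)), θ z ∈ ratioRing b φ e := by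
    rintro ⟨z, hz⟩
    induction hz using Algebra.adjoin_induction with
    | mem z hz =>
      obtain ⟨x, hx, rfl⟩ := hz
      obtain ⟨t, rfl⟩ := exists_val_eq J ⟨U, hU⟩ hx
      refine ratio_mem_ratioRing b φ e t ?_
      apply val_injective
      rw [val_smul, hval, hval, ← hθ, ← hθ, ← map_mul]
      congr 1
      apply Subtype.ext
      exact (IsLocalization.mk'_spec (Localization.Away (val J e)) (val J t)
        ⟨val J e, Submonoid.mem_powers _⟩).symm
    | algebraMap r =>
      have h1 := hθ r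
      have h2 : (b.appLE U (nz b φ e) (nz_le b φ e)).hom r ∈ ratioRing b φ e :=
        app_mem_ratioRing b φ e r
      rw [← h1] at h2
      exact h2
    | add x y hx hy h1 h2 =>
      have := add_mem h1 h2
      rw [← map_add] at this
      exact this
    | mul x y hx hy h1 h2 =>
      have := mul_mem h1 h2
      rw [← map_mul] at this
      exact this
  have htop : ratioRing b φ e = ⊤ := by
    rw [eq_top_iff]
    intro y _
    obtain ⟨z, rfl⟩ := θ.surjective y
    exact key z
  rw [htop]
  exact HImm.of_affine haff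

/-- Blow-ups of ideals of finite type are projective. -/
theorem isProjective (hb : IsBlowUp b J) (hJ : IsFiniteTypeIdeal J) : RelProj.IsProjective b := by
  obtain ⟨φ, hφ⟩ := exists_pull b J
  have hp : IsProper b := Groth.Agent.Flat2C.BlowProper.isProper_of_isBlowUp hb hJ
  exact K34.ProjCrit.isProjective_of_va b (isInvertible_idealMod hb.1)
    (Groth.Agent.PerfA.IdealModule.isQCoh_idealMod J)
    ((Groth.Agent.PerfA.IdealModule.isFT_idealMod_iff J).2 hJ) φ (va hb hφ)

end K470.BlowProj
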