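import Groth.Agent.SDiv.K470.Modif
import Groth.Agent.Krr.H490.PBExist
import Groth.Agent.Krr.H483.PBTop
import Groth.Agent.Krr.H496.PullK0
import Groth.Agent.Krr.H487.KerRank
import Groth.Agent.Krr.H495.Rank
import Groth.Agent.Grass.K652.LfRank
import Groth.Agent.Ega2.QCohLocal

/-!
# Modifications making a vector bundle an iterated extension of invertible modules
-/

set_option autoImplicit false
universe u

open CategoryTheory CategoryTheory.Limits AlgebraicGeometry TopologicalSpace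

namespace K470.Filtr

variable {X : Scheme.{u}}

/-- an invertible quotient after a modification -/
theorem exists_quotient [IsIntegral X] {r : ℕ} {E : X.Modules} (hE : FlatMod.IsFinLocFreeOfRank (r + 1) E) :
    ∃ (X₁ : Scheme.{u}) (f : X₁ ⟶ X) (_ : IsIntegral X₁) (_ : IsProper f) (U : X.Opens) (_ : (U : Set X).Nonempty)
      (_ : IsIso (f ∣_ U)) (L : X₁.Modules) (q : (Scheme.Modules.pullback f).obj E ⟶ L),
      FlatMod.IsFinLocFreeOfRank 1 L ∧ Epi q := by
  obtain ⟨P, π, O1, q, B⟩ := Groth.Agent.Krr.H490.PBExist.exists_isProjBundle hE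
  have hπ : IsProper π := Groth.Agent.Krr.H483.PBTop.isProper hE B
  obtain ⟨V, hV, ⟨e⟩⟩ := hE (genericPoint X)
  let e' : (Scheme.Modules.pullback V.ι).obj E ≅ FlatMod.freeMod (V : Scheme.{u}) (r + 1) :=
    ((Scheme.Modules.restrictFunctorIsoPullback V.ι).app E).symm ≪≫ e
  let p : FlatMod.freeMod (V : Scheme.{u}) (r + 1) ⟶ Coh.structureModule (V : Scheme.{u}) :=
    Sigma.desc fun j => if j = 0 then 𝟙 _ else 0
  have hp : Epi p := by
    have h1 : Sigma.ι (fun _ : Fin (r + 1) => Coh.structureModule (V : Scheme.{u})) 0 ≫ p = 𝟙 _ := by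
      simp [p]
    have h2 : IsSplitEpi p := ⟨⟨⟨_, h1⟩⟩⟩
    infer_instance
  obtain ⟨γ, ⟨hγ, -⟩, -⟩ := B.univ (V : Scheme.{u}) V.ι _ Groth.Agent.Krr.H495.Rank.isFinLocFreeOfRank_structureModule
    (e'.hom ≫ p) inferInstance
  obtain ⟨X₁, i, hX₁, hi, hiso⟩ := K470.Modif.exists_of_section π V ⟨_, hV⟩ γ hγ
  have := B.epi
  refine ⟨X₁, i ≫ π, hX₁, inferInstance, V, ⟨_, hV⟩, hiso, (Scheme.Modules.pullback i).obj O1,
    (Scheme.Modules.pullbackComp i π).inv.app E ≫ (Scheme.Modules.pullback i).map q,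
    K652.LfRank.pullback i B.invertible, inferInstance⟩

/-- the conclusion -/
def Concl (X : Scheme.{u}) (E : X.Modules) (r : ℕ) : Prop :=
  ∃ (X' : Scheme.{u}) (f : X' ⟶ X) (_ : IsIntegral X') (_ : IsProper f) (U : X.Opens) (_ : (U : Set ↥X).Nonempty)
      (_ : IsIso (f ∣_ U)) (M : Fin (r + 1) → X'.Modules) (L : Fin r → X'.Modules),
      IsZero (M 0) ∧ Nonempty (M (Fin.last r) ≅ (Scheme.Modules.pullback f).obj E) ∧
        ∀ i : Fin r, PicF.IsInvertible (L i) ∧
          ∃ S : ShortComplex X'.Modules, S.ShortExact ∧ Nonempty (S.X₁ ≅ M i.castSucc) ∧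
            Nonempty (S.X₂ ≅ M i.succ) ∧ Nonempty (S.X₃ ≅ L i)

theorem isIso_restrict_id (U : X.Opens) : IsIso ((𝟙 X) ∣_ U) := inferInstance

theorem main (r : ℕ) : ∀ (X : Scheme.{u}) [IsIntegral X] (E : X.Modules), FlatMod.IsFinLocFreeOfRank r E →
    Concl X E r := by
  induction r with
  | zero =>
    intro X _ E hE
    have hz : IsZero E := Groth.Agent.Krr.H495.Rank.isZero_of_rank_zero hE
    exact ⟨X, 𝟙 X, inferInstance, inferInstance, ⊤, ⟨genericPoint X, trivial⟩, inferInstance,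
      fun _ => (Scheme.Modules.pullback (𝟙 X)).obj E, Fin.elim0, (Scheme.Modules.pullback (𝟙 X)).map_isZero hz,
      ⟨Iso.refl _⟩, fun i => i.elim0⟩
  | succ r ih =>
    intro X _ E hE
    obtain ⟨X₁, f, hX₁, hf, U, hU, hfU, L, q, hL, hq⟩ := exists_quotient hE
    have hE₁ : FlatMod.IsFinLocFreeOfRank (r + 1) ((Scheme.Modules.pullback f).obj E) := K652.LfRank.pullback f hE
    have hK : FlatMod.IsFinLocFreeOfRank r (kernel q) :=
      Groth.Agent.Krr.H487.KerRank.isFinLocFreeOfRank_kernel q hE₁ hL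
    obtain ⟨X₂, g, hX₂, hg, V, hV, hgV, M, L', hM0, ⟨eM⟩, hM⟩ := ih X₁ (kernel q) hK
    obtain ⟨W, hW, hfW⟩ := K470.Modif.exists_isIso_comp f g U hU V hV
    let S₀ : ShortComplex X₁.Modules := ShortComplex.mk (kernel.ι q) q (kernel.condition q)
    have hS₀ : S₀.ShortExact :=
      { exact := ShortComplex.exact_kernel q
        mono_f := inferInstanceAs (Mono (kernel.ι q))
        epi_g := hq }
    have hS : (S₀.map (Scheme.Modules.pullback g)).ShortExact :=
      Groth.Agent.Krr.H496.PullK0.shortExact_pullback_of_isFinLocFree g hS₀ (fun x => by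
        obtain ⟨U', hx, e⟩ := hL x
        exact ⟨U', 1, hx, e⟩)
    let M₂ : Fin (r + 1 + 1) → X₂.Modules :=
      Fin.snoc (α := fun _ => X₂.Modules) M ((Scheme.Modules.pullback (g ≫ f)).obj E)
    let L₂ : Fin (r + 1) → X₂.Modules := Fin.snoc (α := fun _ => X₂.Modules) L' ((Scheme.Modules.pullback g).obj L)
    have hM₂ : ∀ j : Fin (r + 1), M₂ j.castSucc = M j := fun j => Fin.snoc_castSucc _ _ _
    have hM₂l : M₂ (Fin.last (r + 1)) = (Scheme.Modules.pullback (g ≫ f)).obj E := Fin.snoc_last _ _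
    have hL₂ : ∀ j : Fin r, L₂ j.castSucc = L' j := fun j => Fin.snoc_castSucc _ _ _
    have hL₂l : L₂ (Fin.last r) = (Scheme.Modules.pullback g).obj L := Fin.snoc_last _ _
    refine ⟨X₂, g ≫ f, hX₂, inferInstance, W, hW, hfW, M₂, L₂, ?_, ?_, ?_⟩
    · have h0 : (0 : Fin (r + 1 + 1)) = Fin.castSucc 0 := rfl
      rw [h0, hM₂]
      exact hM0
    · rw [hM₂l]
      exact ⟨Iso.refl _⟩
    · intro i
      induction i using Fin.lastCases with
      | last =>
        rw [hL₂l, hM₂, Fin.succ_last, hM₂l]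
        refine ⟨Groth.Agent.Ega2.QCohLocal.isFinLocFreeOfRank_one_iff.1 (K652.LfRank.pullback g hL),
          S₀.map (Scheme.Modules.pullback g), hS, ⟨eM.symm⟩, ⟨(Scheme.Modules.pullbackComp g f).app E⟩, ⟨Iso.refl _⟩⟩
      | cast j =>
        rw [hL₂, hM₂, Fin.succ_castSucc, hM₂]
        exact hM j

end K470.Filtr
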