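import Groth.Prelude.Def_RegImm
import Groth.Agent.CycA.DiagReg
import Groth.Agent.Divis.RegStalk

/-!
# Regular immersions from regular closed immersions into opens

* `isRegularImmersionAt_of_regAt`: if the immersion `i` restricts to a closed immersion over the open `W` whose ideal is
  generated by a weakly regular sequence near `i z`, then `i` is regular at `z`.
* `isRegularImmersion_of_regular`: immersions between regular locally Noetherian schemes are regular.
-/

set_option autoImplicit false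
universe u

open CategoryTheory CategoryTheory.Limits AlgebraicGeometry TopologicalSpace

namespace K470.RegImmAt

open Groth.Agent.Divis.RegImm Groth.Agent.Divis.RegStalk

variable {X Z : Scheme.{u}}

/-- closed immersion over smaller opens -/
theorem isClosedImmersion_image (i : Z ⟶ X) (W : X.Opens) [IsClosedImmersion (i ∣_ W)]
    (V : (W : Scheme.{u}).Opens) : IsClosedImmersion (i ∣_ (W.ι ''ᵁ V)) :=
  (MorphismProperty.arrow_mk_iso_iff @IsClosedImmersion (morphismRestrictRestrict i W V)).1 inferInstance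

theorem ker_app_image (i : Z ⟶ X) (W : X.Opens) (V : (W : Scheme.{u}).Opens) :
    RingHom.ker (i.app (W.ι ''ᵁ V)).hom = RingHom.ker ((i ∣_ W).app V).hom := by
  ext a
  have h1 : ((i ∣_ W).app V).hom a =
      (Z.presheaf.map (eqToHom (image_morphismRestrict_preimage i W V)).op).hom
        ((i.app (W.ι ''ᵁ V)).hom a) := by
    rw [morphismRestrict_app]
    rfl
  change (i.app (W.ι ''ᵁ V)).hom a = 0 ↔ ((i ∣_ W).app V).hom a = 0
  refine ⟨fun h => by rw [h1, h]; exact map_zero _, fun h => ?_⟩
  rw [h1] at h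
  exact (ConcreteCategory.bijective_of_isIso
    (Z.presheaf.map (eqToHom (image_morphismRestrict_preimage i W V)).op)).1 (h.trans (map_zero _).symm)

theorem isRegularImmersionAt_of_regAt (i : Z ⟶ X) (z : Z) (W : X.Opens) (hz : i z ∈ W)
    [IsClosedImmersion (i ∣_ W)] (h : RegAt (i ∣_ W).ker ((i ∣_ W) ⟨z, hz⟩)) :
    RegImm.IsRegularImmersionAt RegImm.Kind.regular i z := by
  obtain ⟨V, hzV, rs, hrs, hI⟩ := h
  have h1 : (i ∣_ W) ⟨z, hz⟩ ∈ (i ∣_ W).ker.support := mem_support_ker _ _
  have h2 := ideal_ne_top_of_mem_support h1 hzV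
  refine ⟨⟨W.ι ''ᵁ V.1, V.2.image_of_isOpenImmersion W.ι⟩, ?_, isClosedImmersion_image i W V.1, rs, ?_, ?_⟩
  · have h3 : W.ι ((i ∣_ W) ⟨z, hz⟩) = i z := by
      rw [← Scheme.Hom.comp_apply, morphismRestrict_ι]
      rfl
    exact ⟨_, hzV, h3⟩
  · exact (isRegular_iff_ne_top rs).2 ⟨hrs, by rw [← hI]; exact h2⟩
  · refine (ker_app_image i W V.1).trans ?_
    rw [← Scheme.Hom.ker_apply]
    exact hI

/-- The restriction of an immersion to the complement of the boundary of its image is a closed immersion. -/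
theorem isClosedImmersion_restrict_coborderRange (i : Z ⟶ X) [IsImmersion i] :
    IsClosedImmersion (i ∣_ i.coborderRange) := by
  have h1 : i ⁻¹ᵁ i.coborderRange = ⊤ := top_le_iff.1 fun z _ => subset_coborder ⟨z, rfl⟩
  have h2 : (i ∣_ i.coborderRange) = (i ⁻¹ᵁ i.coborderRange).ι ≫ i.liftCoborder := by
    rw [← cancel_mono i.coborderRange.ι, morphismRestrict_ι, Category.assoc, Scheme.Hom.liftCoborder_ι]
  have h3 : IsIso (i ⁻¹ᵁ i.coborderRange).ι := by
    rw [h1]
    exact (Scheme.topIso Z).isIso_hom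
  rw [h2]
  infer_instance

theorem isRegularImmersion_of_regular (i : Z ⟶ X) [IsImmersion i] [IsLocallyNoetherian X]
    (hX : ∀ x : X, IsRegularLocalRing (X.presheaf.stalk x))
    (hZ : ∀ z : Z, IsRegularLocalRing (Z.presheaf.stalk z)) :
    RegImm.IsRegularImmersion RegImm.Kind.regular i := by
  refine ⟨inferInstance, fun z => ?_⟩
  have hcl := isClosedImmersion_restrict_coborderRange i
  have hz : i z ∈ i.coborderRange := subset_coborder ⟨z, rfl⟩
  refine isRegularImmersionAt_of_regAt i z i.coborderRange hz ?_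
  let W := i.coborderRange
  let j := i ∣_ W
  let z' : (i ⁻¹ᵁ W : Z.Opens) := ⟨z, hz⟩
  change RegAt j.ker (j z')
  rw [regAt_ker_iff]
  have h1 : IsRegularLocalRing ((W : Scheme.{u}).presheaf.stalk (j z')) := by
    have := hX (W.ι (j z'))
    exact IsRegularLocalRing.of_ringEquiv (asIso (W.ι.stalkMap (j z'))).commRingCatIsoToRingEquiv
  have h2 : IsRegularLocalRing ((i ⁻¹ᵁ W : Z.Opens).toScheme.presheaf.stalk z') := by
    have := hZ ((i ⁻¹ᵁ W).ι z')
    exact IsRegularLocalRing.of_ringEquiv (asIso ((i ⁻¹ᵁ W).ι.stalkMap z')).commRingCatIsoToRingEquiv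
  have h3 : IsRegularLocalRing ((W : Scheme.{u}).presheaf.stalk (j z') ⧸ RingHom.ker (j.stalkMap z').hom) :=
    IsRegularLocalRing.of_ringEquiv
      (RingHom.quotientKerEquivOfSurjective (f := (j.stalkMap z').hom) (j.stalkMap_surjective z')).symm
  obtain ⟨c, g, hg, hreg, -⟩ := Groth.Agent.CycA.DiagReg.exists_regular_generators _ h3
  exact ⟨List.ofFn g, hreg, by rw [hg, Ideal.ofList]; congr 1; ext; simp⟩

end K470.RegImmAt
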