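import Mathlib.RingTheory.Flat.EquationalCriterion
import Mathlib.Algebra.Module.Submodule.Bilinear
import Mathlib.RingTheory.Ideal.Operations

/-!
# Flatness of a module of homogeneous fractions

`FracData`: a module `M` presented by fractions `F b s` of degree `n` with denominators outside a prime `y`.
If the graded pieces are flat in large degrees then `M` is flat.
-/

set_option autoImplicit false
universe u v w

namespace K470.GrFlat

variable {A : Type u} {R : Type v} [CommRing A] [CommRing R] [Algebra A R] (G : ℕ → Submodule A R)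
  (y : Ideal R) (n : ℤ) (M : Type w) [AddCommGroup M] [Module A M]

/-- A module of fractions of degree `n` with denominators outside `y`. -/
structure FracData where
  /-- the fraction `b / s` -/
  F : ∀ {i j : ℕ} (b s : R), b ∈ G i → s ∈ G j → (i : ℤ) = j + n → s ∉ y → M
  add : ∀ {i j : ℕ} (b b' s : R) (hb : b ∈ G i) (hb' : b' ∈ G i) (hs : s ∈ G j)
    (h : (i : ℤ) = j + n) (hy : s ∉ y), F (b + b') s (add_mem hb hb') hs h hy =
      F b s hb hs h hy + F b' s hb' hs h hy
  smul : ∀ {i j : ℕ} (a : A) (b s : R) (hb : b ∈ G i) (hs : s ∈ G j)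
    (h : (i : ℤ) = j + n) (hy : s ∉ y), F (a • b) s ((G i).smul_mem a hb) hs h hy =
      a • F b s hb hs h hy
  mul : ∀ {i j k i' j' : ℕ} (b s u : R) (hb : b ∈ G i) (hs : s ∈ G j) (_ : u ∈ G k)
    (h : (i : ℤ) = j + n) (hy : s ∉ y) (_ : u ∉ y) (hb' : u * b ∈ G i') (hs' : u * s ∈ G j')
    (h' : (i' : ℤ) = j' + n) (hy' : u * s ∉ y), F (u * b) (u * s) hb' hs' h' hy' = F b s hb hs h hy
  surj : ∀ m : M, ∃ (i j : ℕ) (b s : R) (hb : b ∈ G i) (hs : s ∈ G j) (h : (i : ℤ) = j + n)
    (hy : s ∉ y), m = F b s hb hs h hy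
  zero : ∀ {i j : ℕ} (b s : R) (hb : b ∈ G i) (hs : s ∈ G j) (h : (i : ℤ) = j + n) (hy : s ∉ y),
    F b s hb hs h hy = 0 → ∃ (k : ℕ) (u : R), u ∈ G k ∧ u ∉ y ∧ u * b = 0

variable {G y n M}

/-- Numerators over a fixed denominator. -/
def FracData.lin (D : FracData G y n M) {i j : ℕ} {s : R} (hs : s ∈ G j) (h : (i : ℤ) = j + n)
    (hy : s ∉ y) : G i →ₗ[A] M where
  toFun b := D.F b.1 s b.2 hs h hy
  map_add' b b' := D.add _ _ _ b.2 b'.2 hs h hy
  map_smul' a b := D.smul a _ _ b.2 hs h hy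

/-- Common denominators. -/
theorem FracData.exists_common (D : FracData G y n M) [hyp : y.IsPrime]
    (hG : ∀ {i j : ℕ} {a b : R}, a ∈ G i → b ∈ G j → a * b ∈ G (i + j)) :
    ∀ (l : ℕ) (m : Fin l → M), ∃ (i j : ℕ) (s : R) (hs : s ∈ G j) (h : (i : ℤ) = j + n)
      (hy : s ∉ y) (b : Fin l → G i), ∀ k, m k = D.lin hs h hy (b k) := by
  intro l
  induction l with
  | zero =>
    intro m
    obtain ⟨i, j, b, s, hb, hs, h, hy, -⟩ := D.surj 0
    exact ⟨i, j, s, hs, h, hy, fun _ => 0, fun k => k.elim0⟩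
  | succ l ih =>
    intro m
    obtain ⟨i, j, s, hs, h, hy, b, hb⟩ := ih (fun k => m k.succ)
    obtain ⟨i', j', b', s', hb', hs', h', hy', hm⟩ := D.surj (m 0)
    have hss : s' * s ∉ y := hyp.mul_notMem hy' hy
    have e1 : j + i' = j' + i := by omega
    refine ⟨j' + i, j' + j, s' * s, hG hs' hs, by push_cast; omega, hss,
      Fin.cons ⟨s * b', e1 ▸ hG hs hb'⟩ (fun k => ⟨s' * (b k).1, hG hs' (b k).2⟩), fun k => ?_⟩
    refine Fin.cases ?_ (fun k => ?_) k
    · rw [Fin.cons_zero, hm]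
      have h2 := D.mul (i' := j' + i) (j' := j' + j) b' s' s hb' hs' hs h' hy' hy
        (e1 ▸ hG hs hb') (by rw [mul_comm]; exact hG hs' hs) (by push_cast; omega)
        (by rw [mul_comm]; exact hss)
      rw [← h2]
      simp only [lin, LinearMap.coe_mk, AddHom.coe_mk]
      congr 1
      ring
    · rw [Fin.cons_succ, hb k]
      exact (D.mul _ _ _ (b k).2 hs hs' h hy hy' _ _ _ _).symm

/-- Flatness of the module of fractions. -/
theorem FracData.flat (D : FracData G y n M) [hyp : y.IsPrime]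
    (hG : ∀ {i j : ℕ} {a b : R}, a ∈ G i → b ∈ G j → a * b ∈ G (i + j)) {d₀ : ℕ}
    (hflat : ∀ d, d₀ ≤ d → Module.Flat A (G d)) {e : ℕ} (he : 0 < e) {g : R} (hg : g ∈ G e)
    (hgy : g ∉ y) : Module.Flat A M := by
  have hpow : ∀ N : ℕ, ∃ (k : ℕ) (u : R), N ≤ k ∧ u ∈ G k ∧ u ∉ y := by
    intro N
    induction N with
    | zero => exact ⟨e, g, Nat.zero_le _, hg, hgy⟩
    | succ N ih =>
      obtain ⟨k, u, hk, hu, huy⟩ := ih
      exact ⟨e + k, g * u, by omega, hG hg hu, hyp.mul_notMem hgy huy⟩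
  refine Module.Flat.of_forall_isTrivialRelation fun {l f x} hrel => ?_
  obtain ⟨i, j, s, hs, h, hy, b, hb⟩ := D.exists_common hG l x
  have h1 : D.lin hs h hy (∑ k, f k • b k) = 0 := by
    rw [map_sum, ← hrel]
    exact Finset.sum_congr rfl fun k _ => by rw [map_smul, hb k]
  obtain ⟨k, u, hu, huy, hub⟩ := D.zero _ _ (∑ k, f k • b k).2 hs h hy h1
  obtain ⟨k', v, hk', hv, hvy⟩ := hpow d₀
  have hvu : v * u ∈ G (k' + k) := hG hv hu
  have hvuy : v * u ∉ y := hyp.mul_notMem hvy huy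
  -- the new numerators
  let b' : Fin l → G (k' + k + i) := fun t => ⟨(v * u) * (b t).1, hG hvu (b t).2⟩
  have hx : ∀ t, x t = D.lin (i := k' + k + i) (j := k' + k + j) (s := (v * u) * s) (hG hvu hs)
      (by push_cast; omega) (hyp.mul_notMem hvuy hy) (b' t) := by
    intro t
    rw [hb t]
    exact (D.mul _ _ _ (b t).2 hs hvu h hy hvuy _ _ _ _).symm
  have hrel' : ∑ t, f t • b' t = 0 := by
    apply Subtype.ext
    have h2 : ((∑ t, f t • b' t : G (k' + k + i)) : R) = (v * u) * ((∑ t, f t • b t : G i) : R) := by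
      rw [Submodule.coe_sum, Submodule.coe_sum, Finset.mul_sum]
      refine Finset.sum_congr rfl fun t _ => ?_
      rw [Submodule.coe_smul, Submodule.coe_smul, mul_smul_comm]
    rw [h2, mul_assoc, hub, mul_zero]
    rfl
  have := hflat (k' + k + i) (by omega)
  obtain ⟨κ, c, z, hz, hc⟩ := Module.Flat.isTrivialRelation_of_sum_smul_eq_zero hrel'
  refine ⟨κ, c, fun t => D.lin (i := k' + k + i) (j := k' + k + j) (s := (v * u) * s) (hG hvu hs)
      (by push_cast; omega) (hyp.mul_notMem hvuy hy) (z t), fun t => ?_, hc⟩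
  rw [hx t, hz t, map_sum]
  exact Finset.sum_congr rfl fun q _ => by rw [map_smul]

end K470.GrFlat
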