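import Groth.Agent.EGA2.K43.RelTw
import Groth.Agent.SDiv.K470.GrFlat
import Groth.Prelude.Def_FlatMod2
import Groth.Agent.CycB.StalkExact
import Mathlib.RingTheory.Flat.Localization

/-!
# Flatness of the twisting sheaves of a relative Proj whose graded pieces are flat in large degrees
-/

set_option autoImplicit false
universe u
open CategoryTheory CategoryTheory.Limits AlgebraicGeometry TopologicalSpace Opposite

noncomputable section

namespace K470.RelProjFlat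

open Groth.Agent.Fdesc.LocGen K43.GrFrac K43.RelTw RelProj

section ring

variable {A σ : Type u} [CommRing A] [SetLike σ A] [AddSubgroupClass σ A] {𝒜 : ℕ → σ} [GradedRing 𝒜]

/-- A homogeneous annihilator outside a homogeneous prime. -/
theorem exists_homogeneous_annihilator (y : ProjectiveSpectrum 𝒜) {i : ℕ} {b u : A} (hb : b ∈ 𝒜 i)
    (hu : u ∉ y.asHomogeneousIdeal) (h : u * b = 0) :
    ∃ (k : ℕ) (v : A), v ∈ 𝒜 k ∧ v ∉ y.asHomogeneousIdeal ∧ v * b = 0 := by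
  classical
  by_contra hcon
  push Not at hcon
  apply hu
  have h1 : ∀ k, (DirectSum.decompose 𝒜 u k : A) * b = 0 := by
    intro k
    rw [← DirectSum.coe_decompose_mul_add_of_right_mem 𝒜 hb, h]
    simp
  rw [← DirectSum.sum_support_decompose 𝒜 u]
  refine sum_mem fun k _ => ?_
  by_contra hk
  exact hcon k _ (SetLike.coe_mem _) hk (h1 k)

/-- The section `b / s` of `O(n)` over an open where `s` does not vanish. -/
def fsec (n : ℤ) {i j : ℕ} (b s : A) (hb : b ∈ 𝒜 i) (hs : s ∈ 𝒜 j) (h : (i : ℤ) = j + n)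
    (W : (Proj 𝒜).Opens) (hW : ∀ x : ProjectiveSpectrum 𝒜, x ∈ W → s ∉ x.asHomogeneousIdeal) :
    Γ(GrTwist.twist 𝒜 n, W) :=
  fracSec n (⟨b, hb⟩ : 𝒜 i) (⟨s, hs⟩ : 𝒜 j) h W hW

theorem val_fsec {n : ℤ} {i j : ℕ} (b s : A) (hb : b ∈ 𝒜 i) (hs : s ∈ 𝒜 j) (h : (i : ℤ) = j + n)
    (W : (Proj 𝒜).Opens) (hW : ∀ x : ProjectiveSpectrum 𝒜, x ∈ W → s ∉ x.asHomogeneousIdeal) (y : W) :
    GrTwist.val (fsec n b s hb hs h W hW) y = Localization.mk b ⟨s, hW y.1 y.2⟩ := rfl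

/-- Sections of `O(n)` are locally fractions. -/
theorem exists_frac {n : ℤ} {W : (Proj 𝒜).Opens} (t : Γ(GrTwist.twist 𝒜 n, W))
    (y : ProjectiveSpectrum 𝒜) (hy : y ∈ W) :
    ∃ (V : (Proj 𝒜).Opens) (hV : V ≤ W) (i j : ℕ) (b s : A) (_ : b ∈ 𝒜 i) (_ : s ∈ 𝒜 j)
      (_ : (i : ℤ) = j + n) (hs : ∀ x : ProjectiveSpectrum 𝒜, x ∈ V → s ∉ x.asHomogeneousIdeal),
      y ∈ V ∧ ∀ (x : ProjectiveSpectrum 𝒜) (hx : x ∈ V),
        GrTwist.val t ⟨x, hV hx⟩ = Localization.mk b ⟨s, hs x hx⟩ := by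
  obtain ⟨V, hyV, iV, i, j, ⟨b, hb⟩, ⟨s, hs⟩, nin, hij, w⟩ :=
    (show GrTwist.sectN (𝒜 := 𝒜) n (op W) from t).2 ⟨y, hy⟩
  rcases hij with hij | hb0
  · exact ⟨V, iV.le, i, j, b, s, hb, hs, hij, fun x hx => nin ⟨x, hx⟩, hyV, fun x hx => w ⟨x, hx⟩⟩
  · change b = 0 at hb0
    subst hb0
    obtain ⟨e, he, ⟨g, hg⟩, hgy⟩ := exists_homogeneous_notMem y
    change g ∉ y.asHomogeneousIdeal at hgy
    have hpos : (0 : ℤ) ≤ ((n.natAbs * e : ℕ) : ℤ) + n := by
      have h1 : n.natAbs ≤ n.natAbs * e := Nat.le_mul_of_pos_right _ he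
      omega
    refine ⟨V ⊓ Proj.basicOpen 𝒜 g, inf_le_left.trans iV.le, (((n.natAbs * e : ℕ) : ℤ) + n).toNat,
      n.natAbs * e, 0, g ^ n.natAbs, zero_mem _, ?_, ?_, ?_, ⟨hyV, hgy⟩, ?_⟩
    · have := SetLike.pow_mem_graded n.natAbs hg
      simpa using this
    · rw [Int.toNat_of_nonneg hpos]
    · intro x hx hmem
      exact hx.2 (x.isPrime.mem_of_pow_mem _ hmem)
    · intro x hx
      refine (w ⟨x, hx.1⟩).trans ?_
      rw [Localization.mk_zero, Localization.mk_zero]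

end ring

section main

variable {S P : Scheme.{u}} {𝒮 : QCGrAlg S} {p : P ⟶ S}
  {chart : ∀ (U : S.Opens) (hU : IsAffineOpen U), (((p ⁻¹ᵁ U : P.Opens) : Scheme.{u}) ≅ Proj (𝒮.deg U hU))}
  {n : ℤ} {L : P.Modules}
  {lam : ∀ (U : S.Opens) (hU : IsAffineOpen U),
    L ⟶ (Scheme.Modules.pushforward (emb p chart U hU)).obj (GrTwist.twist (𝒮.deg U hU) n)}
  {U : S.Opens} (hU : IsAffineOpen U)

/-- The graded piece as a module over the functions on the base. -/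
def gr (𝒮 : QCGrAlg S) (d : ℕ) :
    letI := (𝒮.str.app (op U)).hom.toAlgebra
    Submodule Γ(S, U) (𝒮.presheaf.obj (op U)) :=
  letI := (𝒮.str.app (op U)).hom.toAlgebra
  Submodule.span Γ(S, U) (𝒮.deg U hU d : Set (𝒮.presheaf.obj (op U)))

theorem mem_gr {d : ℕ} {x : 𝒮.presheaf.obj (op U)} : x ∈ gr hU 𝒮 d ↔ x ∈ 𝒮.deg U hU d := by
  letI := (𝒮.str.app (op U)).hom.toAlgebra
  constructor
  · intro h
    refine Submodule.span_induction (p := fun x _ => x ∈ 𝒮.deg U hU d) ?_ ?_ ?_ ?_ h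
    · intro x hx
      exact hx
    · exact zero_mem _
    · intro x y _ _ hx hy
      exact add_mem hx hy
    · intro a x _ hx
      have := SetLike.mul_mem_graded (A := 𝒮.deg U hU) (𝒮.str_mem U hU a) hx
      rwa [zero_add] at this
  · intro h
    exact Submodule.subset_span h

variable (hP : IsRelProj 𝒮 p chart) (hL : IsRelTwist 𝒮 p chart n L lam)

variable (p chart) in
theorem notMem_of_mem_Dp (s : 𝒮.presheaf.obj (op U)) (y : ProjectiveSpectrum (𝒮.deg U hU))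
    (hy : y ∈ (emb p chart U hU ⁻¹ᵁ Dp chart hU s : (Proj (𝒮.deg U hU)).Opens)) :
    s ∉ y.asHomogeneousIdeal := by
  have h : emb p chart U hU ⁻¹ᵁ Dp chart hU s = Proj.basicOpen (𝒮.deg U hU) s :=
    emb_preimage_Dp hU s
  rw [h] at hy
  exact hy

/-- The section `b / s` over `D_+(s)`. -/
def fr {i j : ℕ} (b s : 𝒮.presheaf.obj (op U)) (hb : b ∈ 𝒮.deg U hU i) (hs : s ∈ 𝒮.deg U hU j)
    (h : (i : ℤ) = j + n) : Γ(L, Dp chart hU s) :=
  (Equiv.ofBijective _ (hL.bijective U hU (Dp chart hU s) (Dp_le hU s))).symm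
    (fsec n b s hb hs h (emb p chart U hU ⁻¹ᵁ Dp chart hU s)
      (notMem_of_mem_Dp p chart hU s))

theorem rdU_fr {i j : ℕ} (b s : 𝒮.presheaf.obj (op U)) (hb : b ∈ 𝒮.deg U hU i)
    (hs : s ∈ 𝒮.deg U hU j) (h : (i : ℤ) = j + n) :
    rdU lam hU (fr hU hL b s hb hs h) =
      fsec n b s hb hs h (emb p chart U hU ⁻¹ᵁ Dp chart hU s)
        (notMem_of_mem_Dp p chart hU s) :=
  (Equiv.ofBijective _ (hL.bijective U hU (Dp chart hU s) (Dp_le hU s))).apply_symm_apply _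

theorem val_fr {i j : ℕ} (b s : 𝒮.presheaf.obj (op U)) (hb : b ∈ 𝒮.deg U hU i)
    (hs : s ∈ 𝒮.deg U hU j) (h : (i : ℤ) = j + n)
    (z : (emb p chart U hU ⁻¹ᵁ Dp chart hU s : (Proj (𝒮.deg U hU)).Opens)) :
    GrTwist.val (rdU lam hU (fr hU hL b s hb hs h)) z =
      Localization.mk b ⟨s, notMem_of_mem_Dp p chart hU s z.1 z.2⟩ := by
  rw [rdU_fr, val_fsec]

include hL in
/-- Germs are determined by the values near the point. -/
theorem germ_eq {x : P} {W W' W'' : P.Opens} (hx : x ∈ W) (hx' : x ∈ W') (hx'' : x ∈ W'')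
    (hW : W ≤ p ⁻¹ᵁ U) (s : Γ(L, W)) (t : Γ(L, W'))
    (h : ∀ (z : Proj (𝒮.deg U hU)) (hz : emb p chart U hU z ∈ W) (hz' : emb p chart U hU z ∈ W'),
      emb p chart U hU z ∈ W'' →
      GrTwist.val (rdU lam hU s) ⟨z, hz⟩ = GrTwist.val (rdU lam hU t) ⟨z, hz'⟩) :
    L.presheaf.germ W x hx s = L.presheaf.germ W' x hx' t := by
  let V := W ⊓ W' ⊓ W''
  have h1 : V ≤ W := inf_le_left.trans inf_le_left
  have h2 : V ≤ W' := inf_le_left.trans inf_le_right
  have h3 : res L h1 s = res L h2 t := by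
    apply rdU_injective hL hU (h1.trans hW)
    dsimp only
    rw [rdU, rdU, rd_res, rd_res]
    refine sec_ext fun z => ?_
    rw [val_res, val_res]
    exact h z.1 (h1 z.2) (h2 z.2) z.2.2
  rw [← TopCat.Presheaf.germ_res_apply L.presheaf (homOfLE h1) x ⟨⟨hx, hx'⟩, hx''⟩ s,
    ← TopCat.Presheaf.germ_res_apply L.presheaf (homOfLE h2) x ⟨⟨hx, hx'⟩, hx''⟩ t]
  exact congrArg _ h3

theorem fr_add {i j : ℕ} (b b' s : 𝒮.presheaf.obj (op U)) (hb : b ∈ 𝒮.deg U hU i)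
    (hb' : b' ∈ 𝒮.deg U hU i) (hs : s ∈ 𝒮.deg U hU j) (h : (i : ℤ) = j + n) :
    fr hU hL (b + b') s (add_mem hb hb') hs h = fr hU hL b s hb hs h + fr hU hL b' s hb' hs h := by
  apply rdU_injective hL hU (Dp_le hU s)
  dsimp only
  rw [rdU_fr, rdU, rd_add, ← rdU, ← rdU, rdU_fr, rdU_fr]
  refine sec_ext fun z => ?_
  rw [val_add, val_fsec, val_fsec, val_fsec, Localization.add_mk_self]

include hP in
theorem fr_smul {i j : ℕ} (a : Γ(S, U)) (b s : 𝒮.presheaf.obj (op U)) (hb : b ∈ 𝒮.deg U hU i)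
    (hs : s ∈ 𝒮.deg U hU j) (h : (i : ℤ) = j + n)
    (hab : (𝒮.str.app (op U)).hom a * b ∈ 𝒮.deg U hU i) :
    fr hU hL ((𝒮.str.app (op U)).hom a * b) s hab hs h =
      (ores (Dp_le hU s) (p.app U a) : Γ(P, Dp chart hU s)) • fr hU hL b s hb hs h := by
  apply rdU_injective hL hU (Dp_le hU s)
  dsimp only
  rw [rdU_fr, rdU_smul hU, rdU_fr]
  refine sec_ext fun z => ?_
  rw [val_smul, val_fsec, val_fsec]
  have h1 := val_fun hU hP (Dp_le hU s) a z
  rw [h1, ← Localization.mk_one_eq_algebraMap, Localization.mk_mul, one_mul]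

include hL in
theorem germ_surj (y : Proj (𝒮.deg U hU)) (m : L.presheaf.stalk (emb p chart U hU y)) :
    ∃ (i j : ℕ) (b s : 𝒮.presheaf.obj (op U)) (hb : b ∈ 𝒮.deg U hU i) (hs : s ∈ 𝒮.deg U hU j)
      (h : (i : ℤ) = j + n) (hy : emb p chart U hU y ∈ Dp chart hU s),
      m = L.presheaf.germ (Dp chart hU s) _ hy (fr hU hL b s hb hs h) := by
  obtain ⟨W, hyW, s₀, rfl⟩ := TopCat.Presheaf.exists_germ_eq L.presheaf m
  have hyU : emb p chart U hU y ∈ p ⁻¹ᵁ U := by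
    have : emb p chart U hU y ∈ (emb p chart U hU).opensRange := ⟨y, rfl⟩
    rwa [K35.RelProjBasic.opensRange_emb] at this
  obtain ⟨V, hV, i, j, b, s, hb, hs, h, hsV, hyV, hval⟩ := exists_frac
    (rdU lam hU (res L (inf_le_left : W ⊓ p ⁻¹ᵁ U ≤ W) s₀)) y ⟨hyW, hyU⟩
  refine ⟨i, j, b, s, hb, hs, h, (emb_mem_Dp hU s y).2 (hsV y hyV), ?_⟩
  have h1 : L.presheaf.germ W _ hyW s₀ = L.presheaf.germ (W ⊓ p ⁻¹ᵁ U) _ ⟨hyW, hyU⟩
      (res L (inf_le_left : W ⊓ p ⁻¹ᵁ U ≤ W) s₀) :=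
    (TopCat.Presheaf.germ_res_apply L.presheaf (homOfLE inf_le_left) _ _ s₀).symm
  refine h1.trans ?_
  refine germ_eq (W'' := emb p chart U hU ''ᵁ V) hU hL _ _ ⟨y, hyV, rfl⟩ inf_le_right _ _ ?_
  rintro z hz hz' ⟨z', hz'V, hzz'⟩
  obtain rfl : z' = z := (emb p chart U hU).isOpenEmbedding.injective hzz'
  rw [val_fr]
  exact hval z' hz'V

include hL in
theorem germ_mul (y : Proj (𝒮.deg U hU)) {i j i' j' : ℕ} (b s u : 𝒮.presheaf.obj (op U))
    (hb : b ∈ 𝒮.deg U hU i) (hs : s ∈ 𝒮.deg U hU j) (h : (i : ℤ) = j + n)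
    (hy : emb p chart U hU y ∈ Dp chart hU s) (hb' : u * b ∈ 𝒮.deg U hU i')
    (hs' : u * s ∈ 𝒮.deg U hU j') (h' : (i' : ℤ) = j' + n)
    (hy' : emb p chart U hU y ∈ Dp chart hU (u * s)) :
    L.presheaf.germ (Dp chart hU (u * s)) _ hy' (fr hU hL (u * b) (u * s) hb' hs' h') =
      L.presheaf.germ (Dp chart hU s) _ hy (fr hU hL b s hb hs h) := by
  refine germ_eq (W'' := ⊤) hU hL _ _ trivial (Dp_le hU _) _ _ ?_
  intro z hz hz' _
  rw [val_fr, val_fr, Localization.mk_eq_mk_iff, Localization.r_iff_exists]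
  refine ⟨1, ?_⟩
  simp only [OneMemClass.coe_one, one_mul]
  ring

include hL in
theorem germ_zero (y : Proj (𝒮.deg U hU)) {i j : ℕ} (b s : 𝒮.presheaf.obj (op U))
    (hb : b ∈ 𝒮.deg U hU i) (hs : s ∈ 𝒮.deg U hU j) (h : (i : ℤ) = j + n)
    (hy : emb p chart U hU y ∈ Dp chart hU s)
    (h0 : L.presheaf.germ (Dp chart hU s) _ hy (fr hU hL b s hb hs h) = 0) :
    ∃ (k : ℕ) (u : 𝒮.presheaf.obj (op U)), u ∈ 𝒮.deg U hU k ∧
      u ∉ (show ProjectiveSpectrum (𝒮.deg U hU) from y).asHomogeneousIdeal ∧ u * b = 0 := by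
  have h0' : L.presheaf.germ (Dp chart hU s) _ hy (fr hU hL b s hb hs h) =
      L.presheaf.germ (Dp chart hU s) _ hy 0 := by rw [h0, map_zero]
  obtain ⟨W, hyW, i₁, i₂, hW⟩ := TopCat.Presheaf.germ_eq L.presheaf _ hy hy _ _ h0'
  have h1 : res L i₁.le (fr hU hL b s hb hs h) = 0 := by
    refine Eq.trans hW ?_
    exact map_zero _
  have h2 : rdU lam hU (res L i₁.le (fr hU hL b s hb hs h)) = rdU lam hU (0 : Γ(L, W)) := by
    rw [h1]
  have h3 : GrTwist.val (rdU lam hU (res L i₁.le (fr hU hL b s hb hs h))) ⟨y, hyW⟩ =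
      GrTwist.val (rdU lam hU (0 : Γ(L, W))) ⟨y, hyW⟩ := by rw [h2]
  rw [rdU, rd_res, ← rdU, val_res, val_fr] at h3
  have h4 : GrTwist.val (rdU lam hU (0 : Γ(L, W))) ⟨y, hyW⟩ = 0 := by
    have : rdU lam hU (0 : Γ(L, W)) = 0 := map_zero ((lam U hU).app W).hom
    rw [this]
    rfl
  rw [h4, Localization.mk_eq_mk', IsLocalization.mk'_eq_zero_iff] at h3
  obtain ⟨u, hu⟩ := h3
  exact exists_homogeneous_annihilator (show ProjectiveSpectrum (𝒮.deg U hU) from y) hb u.2 hu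

include hP hL in
/-- Flatness at the points over `U`. -/
theorem isFlatOverAt {d₀ : ℕ}
    (hflat : letI := (𝒮.str.app (op U)).hom.toAlgebra
      ∀ d, d₀ ≤ d → Module.Flat Γ(S, U) (gr hU 𝒮 d))
    (y : Proj (𝒮.deg U hU)) : FlatMod.IsFlatOverAt p L (emb p chart U hU y) := by
  have hxU : p (emb p chart U hU y) ∈ U := by
    have : emb p chart U hU y ∈ (emb p chart U hU).opensRange := ⟨y, rfl⟩
    rw [K35.RelProjBasic.opensRange_emb] at this
    exact this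
  letI alg : Algebra Γ(S, U) (𝒮.presheaf.obj (op U)) := (𝒮.str.app (op U)).hom.toAlgebra
  letI algO : Algebra Γ(S, U) (S.presheaf.stalk (p (emb p chart U hU y))) :=
    (S.presheaf.germ U _ hxU).hom.toAlgebra
  have hloc : IsLocalization.AtPrime (S.presheaf.stalk (p (emb p chart U hU y)))
    (hU.primeIdealOf ⟨_, hxU⟩).asIdeal := hU.isLocalization_stalk ⟨_, hxU⟩
  letI modO := FlatMod.moduleStalkOver p L (emb p chart U hU y)
  letI modA : Module Γ(S, U) (L.presheaf.stalk (emb p chart U hU y)) :=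
    Module.compHom _ (algebraMap Γ(S, U) (S.presheaf.stalk (p (emb p chart U hU y))))
  have htow : IsScalarTower Γ(S, U) (S.presheaf.stalk (p (emb p chart U hU y)))
    (L.presheaf.stalk (emb p chart U hU y)) := IsScalarTower.of_algebraMap_smul fun r m => rfl
  have hsmul : ∀ (a : Γ(S, U)) {W : P.Opens} (hW : W ≤ p ⁻¹ᵁ U) (hyW : emb p chart U hU y ∈ W)
      (m : Γ(L, W)), L.presheaf.germ W _ hyW ((ores hW (p.app U a) : Γ(P, W)) • m) =
        a • L.presheaf.germ W _ hyW m := by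
    intro a W hW hyW m
    rw [Groth.Agent.CycB.StalkExact.germ_smul]
    have h1 : P.presheaf.germ W _ hyW (ores hW (p.app U a)) =
        p.stalkMap (emb p chart U hU y) (S.presheaf.germ U _ hxU a) := by
      rw [Scheme.Hom.germ_stalkMap_apply]
      exact TopCat.Presheaf.germ_res_apply P.presheaf (homOfLE hW) _ hyW (p.app U a)
    rw [h1]
    rfl
  let D : GrFlat.FracData (gr hU 𝒮)
      (show ProjectiveSpectrum (𝒮.deg U hU) from y).asHomogeneousIdeal.toIdeal n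
      (L.presheaf.stalk (emb p chart U hU y)) :=
    { F := fun b s hb hs h hy => L.presheaf.germ (Dp chart hU s) _ ((emb_mem_Dp hU s y).2 hy)
        (fr hU hL b s ((mem_gr hU).1 hb) ((mem_gr hU).1 hs) h)
      add := fun b b' s hb hb' hs h hy => by
        rw [← map_add, ← fr_add]
      smul := fun a b s hb hs h hy => by
        rw [← hsmul a (Dp_le hU s), ← fr_smul hU hP hL a b s ((mem_gr hU).1 hb)
          ((mem_gr hU).1 hs) h ((mem_gr hU).1 ((gr hU 𝒮 _).smul_mem a hb))]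
        rfl
      mul := fun b s u hb hs hu h hy huy hb' hs' h' hy' =>
        germ_mul hU hL y b s u ((mem_gr hU).1 hb) ((mem_gr hU).1 hs) h _ ((mem_gr hU).1 hb')
          ((mem_gr hU).1 hs') h' _
      surj := fun m => by
        obtain ⟨i, j, b, s, hb, hs, h, hy, hm⟩ := germ_surj hU hL y m
        exact ⟨i, j, b, s, (mem_gr hU).2 hb, (mem_gr hU).2 hs, h, (emb_mem_Dp hU s y).1 hy, hm⟩
      zero := fun b s hb hs h hy h0 => by
        obtain ⟨k, u, hu, huy, hub⟩ := germ_zero hU hL y b s ((mem_gr hU).1 hb) ((mem_gr hU).1 hs)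
          h _ h0
        exact ⟨k, u, (mem_gr hU).2 hu, huy, hub⟩ }
  have hprime : (show ProjectiveSpectrum (𝒮.deg U hU) from y).asHomogeneousIdeal.toIdeal.IsPrime :=
    (show ProjectiveSpectrum (𝒮.deg U hU) from y).isPrime
  obtain ⟨e, he, ⟨g, hg⟩, hgy⟩ := exists_homogeneous_notMem (show ProjectiveSpectrum (𝒮.deg U hU) from y)
  have hfl : Module.Flat Γ(S, U) (L.presheaf.stalk (emb p chart U hU y)) :=
    D.flat (fun {i j a b} ha hb => (mem_gr hU).2
      (SetLike.mul_mem_graded ((mem_gr hU).1 ha) ((mem_gr hU).1 hb))) hflat he ((mem_gr hU).2 hg) hgy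
  exact (Module.flat_iff_of_isLocalization (S.presheaf.stalk (p (emb p chart U hU y)))
    (hU.primeIdealOf ⟨_, hxU⟩).asIdeal.primeCompl
    (L.presheaf.stalk (emb p chart U hU y))).2 hfl

end main

/-- **Flatness of the twisting sheaves.** -/
theorem isFlatOver {S P : Scheme.{u}} {𝒮 : QCGrAlg S} {p : P ⟶ S}
    {chart : ∀ (U : S.Opens) (hU : IsAffineOpen U), (((p ⁻¹ᵁ U : P.Opens) : Scheme.{u}) ≅ Proj (𝒮.deg U hU))}
    {n : ℤ} {L : P.Modules}
    {lam : ∀ (U : S.Opens) (hU : IsAffineOpen U),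
      L ⟶ (Scheme.Modules.pushforward (emb p chart U hU)).obj (GrTwist.twist (𝒮.deg U hU) n)}
    (hP : IsRelProj 𝒮 p chart) (hL : IsRelTwist 𝒮 p chart n L lam) {d₀ : ℕ}
    (hflat : ∀ d : ℕ, d₀ ≤ d → ∀ (U : S.Opens) (hU : IsAffineOpen U),
      letI := (𝒮.str.app (op U)).hom.toAlgebra
      Module.Flat Γ(S, U) ↥(Submodule.span Γ(S, U) (𝒮.deg U hU d : Set (𝒮.presheaf.obj (op U))))) :
    FlatMod.IsFlatOver p L := by
  intro x
  obtain ⟨U, hU, hxU, -⟩ := exists_isAffineOpen_mem_and_subset (U := (⊤ : S.Opens)) (x := p x) trivial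
  have hx : x ∈ (emb p chart U hU).opensRange := by
    rw [K35.RelProjBasic.opensRange_emb]
    exact hxU
  obtain ⟨y, rfl⟩ := hx
  exact isFlatOverAt hU hP hL (d₀ := d₀) (fun d hd => hflat d hd U hU) y

end K470.RelProjFlat
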