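import Groth.Agent.Divis.RelCartier
import Groth.Agent.Divis.IdealComap
import Mathlib.LinearAlgebra.TensorProduct.Pi
import Mathlib.RingTheory.LocalRing.ResidueField.Ideal
import Mathlib.AlgebraicGeometry.Noetherian

/-!
# Containment of ideal sheaves with flat quotient can be checked on fibres over a reduced base
-/

set_option autoImplicit false
universe u

open CategoryTheory CategoryTheory.Limits AlgebraicGeometry TopologicalSpace TensorProduct
open Groth.Agent.Divis

namespace K470.FibLe

/-- An element of a flat module vanishing in `K i ⊗ M` for a finite family of algebras such that `A → ∏ K i` is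
injective vanishes. -/
theorem eq_zero_of_forall {A : Type u} [CommRing A] {ι : Type*} [Finite ι] (K : ι → Type u) [∀ i, CommRing (K i)]
    [∀ i, Algebra A (K i)] (hinj : Function.Injective (algebraMap A (∀ i, K i)))
    (M : Type u) [AddCommGroup M] [Module A M] [Module.Flat A M] (m : M)
    (h : ∀ i, m ⊗ₜ[A] (1 : K i) = 0) : m = 0 := by
  classical
  cases nonempty_fintype ι
  have h1 : m ⊗ₜ[A] (1 : ∀ i, K i) = 0 := by
    apply (TensorProduct.piRight A A M K).injective
    rw [map_zero]
    ext i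
    rw [TensorProduct.piRight_apply, TensorProduct.piRightHom_tmul]
    exact h i
  have h2 := Module.Flat.lTensor_preserves_injective_linearMap (M := M) (Algebra.linearMap A (∀ i, K i)) hinj
  have h3 : (Algebra.linearMap A (∀ i, K i)).lTensor M (m ⊗ₜ (1 : A)) = 0 := by
    rw [LinearMap.lTensor_tmul, Algebra.linearMap_apply, map_one, h1]
  have h4 := h2 (h3.trans (map_zero _).symm)
  have h5 := congrArg (TensorProduct.rid A M) h4
  simpa using h5

/-- the residue field at a minimal prime -/
abbrev Kp (A : Type u) [CommRing A] (p : minimalPrimes A) : Type u :=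
  haveI : p.1.IsPrime := p.2.1.1
  p.1.ResidueField

theorem injective_minimalPrimes (A : Type u) [CommRing A] [_root_.IsReduced A] :
    Function.Injective (algebraMap A (∀ p : minimalPrimes A, Kp A p)) := by
  rw [injective_iff_map_eq_zero]
  intro a ha
  have h1 : a ∈ nilradical A := by
    rw [nilradical, ← Ideal.sInf_minimalPrimes, Ideal.mem_sInf]
    intro p hp
    have hp' : p.IsPrime := hp.1.1
    have h2 : algebraMap A p.ResidueField a = 0 := congrFun ha ⟨p, hp⟩
    rwa [← RingHom.mem_ker, Ideal.ker_algebraMap_residueField] at h2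
  rwa [nilradical_eq_zero, Ideal.zero_eq_bot, Ideal.mem_bot] at h1

/-- Comparison of ideals after a base change factoring through a field. -/
theorem map_le_of_fibre {X S : Scheme.{u}} (f : X ⟶ S) (I J : X.IdealSheafData)
    (hfib : ∀ s : S, I.comap (pullback.fst f (S.fromSpecResidueField s)) ≤
      J.comap (pullback.fst f (S.fromSpecResidueField s)))
    (U : S.affineOpens) (V : X.affineOpens) (e : V.1 ≤ f ⁻¹ᵁ U.1) (K : Type u) [Field K]
    (φ : Γ(S, U.1) ⟶ CommRingCat.of K) (C : CommRingCat.{u}) (a : Γ(X, V.1) ⟶ C) (b : CommRingCat.of K ⟶ C)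
    (h : f.appLE U.1 V.1 e ≫ a = φ ≫ b) : (I.ideal V).map a.hom ≤ (J.ideal V).map a.hom := by
  let w : Spec C ⟶ X := Spec.map a ≫ V.2.fromSpec
  let ψ : Spec (CommRingCat.of K) ⟶ S := Spec.map φ ≫ U.2.fromSpec
  have h1 : w ≫ f = Spec.map b ≫ ψ := by
    simp only [w, ψ, Category.assoc]
    rw [← IsAffineOpen.SpecMap_appLE_fromSpec f U.2 V.2 e, ← Spec.map_comp_assoc, h, Spec.map_comp_assoc]
  let s : S := ψ (IsLocalRing.closedPoint K)
  have h2 : Spec.map (Scheme.descResidueField (Scheme.stalkClosedPointTo ψ)) ≫ S.fromSpecResidueField s = ψ :=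
    Scheme.descResidueField_stalkClosedPointTo_fromSpecResidueField K S ψ
  let k : Spec C ⟶ pullback f (S.fromSpecResidueField s) := pullback.lift w
    (Spec.map b ≫ Spec.map (Scheme.descResidueField (Scheme.stalkClosedPointTo ψ)))
    (h1.trans ((congrArg (Spec.map b ≫ ·) h2.symm).trans (Category.assoc _ _ _).symm))
  have h3 : w = k ≫ pullback.fst f (S.fromSpecResidueField s) := (pullback.lift_fst _ _ _).symm
  have h4 : I.comap w ≤ J.comap w := by
    rw [h3, Scheme.IdealSheafData.comap_comp, Scheme.IdealSheafData.comap_comp]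
    exact Scheme.IdealSheafData.comap_mono _ (hfib s)
  have e' : (⟨⊤, isAffineOpen_top (Spec C)⟩ : (Spec C).affineOpens).1 ≤ w ⁻¹ᵁ V.1 := by
    rintro x -
    have h5 : w x ∈ Set.range V.2.fromSpec := ⟨Spec.map a x, by rw [← Scheme.Hom.comp_apply]⟩
    rwa [V.2.range_fromSpec] at h5
  have h5 := h4 ⟨⊤, isAffineOpen_top (Spec C)⟩
  rw [IdealComap.ideal_comap I w V _ e', IdealComap.ideal_comap J w V _ e'] at h5
  have h6 : w.appLE V.1 ⊤ e' = a ≫ (Scheme.ΓSpecIso C).inv := by
    apply Spec.map_injective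
    rw [← cancel_mono V.2.fromSpec, IsAffineOpen.SpecMap_appLE_fromSpec w V.2 (isAffineOpen_top _) e',
      IsAffineOpen.fromSpec_top, Spec.map_comp, Category.assoc]
    rw [Scheme.isoSpec_Spec_inv]
  have h7 := Ideal.map_mono (f := (Scheme.ΓSpecIso C).hom.hom) h5
  have h8 : (Scheme.ΓSpecIso C).hom.hom.comp (w.appLE V.1 ⊤ e').hom = a.hom := by
    rw [h6, ← CommRingCat.hom_comp, Category.assoc, Iso.inv_hom_id, Category.comp_id]
  rw [Ideal.map_map, Ideal.map_map, h8] at h7
  exact h7

theorem le_of_forall_fibre_le {X S : Scheme.{u}} [IsLocallyNoetherian S] [AlgebraicGeometry.IsReduced S] (f : X ⟶ S)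
    (I J : X.IdealSheafData) (hJ : Flat (J.subschemeι ≫ f))
    (hfib : ∀ s : S, I.comap (pullback.fst f (S.fromSpecResidueField s)) ≤
      J.comap (pullback.fst f (S.fromSpecResidueField s))) : I ≤ J := by
  have h0 : ∀ x : X, ∃ (U : S.affineOpens) (V : X.affineOpens), x ∈ V.1 ∧ V.1 ≤ f ⁻¹ᵁ U.1 := by
    intro x
    obtain ⟨U, V, _, h1, _, _, h2⟩ := IdealComap.exists_affine_le f x ⊤ trivial ⊤ trivial
    exact ⟨U, V, h1, h2⟩
  choose U V hxV e using h0
  refine Scheme.IdealSheafData.le_of_iSup_eq_top V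
    (top_le_iff.mp fun x _ ↦ TopologicalSpace.Opens.mem_iSup.mpr ⟨x, hxV x⟩) fun x => ?_
  intro a ha
  let A := Γ(S, (U x).1)
  let B := Γ(X, (V x).1)
  let φ : A →+* B := (f.appLE (U x).1 (V x).1 (e x)).hom
  letI : Algebra A B := φ.toAlgebra
  have hAred : _root_.IsReduced A := inferInstanceAs (_root_.IsReduced Γ(S, (U x).1))
  have hAn : IsNoetherianRing A := IsLocallyNoetherian.component_noetherian (U x)
  have hfl : Module.Flat A (B ⧸ J.ideal (V x)) := RelCartier.flat_quotMap f J hJ (U x) (V x) (e x)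
  have hfin : Finite (minimalPrimes A) := minimalPrimes.finite_of_isNoetherianRing A
  rw [← Ideal.Quotient.eq_zero_iff_mem]
  refine eq_zero_of_forall (Kp A) (injective_minimalPrimes A) _ _ fun p => ?_
  have hp : p.1.IsPrime := p.2.1.1
  let C : CommRingCat.{u} := CommRingCat.of (B ⊗[A] Kp A p)
  let iB : B →+* B ⊗[A] Kp A p := algebraMap B (B ⊗[A] Kp A p)
  let iK : Kp A p →+* B ⊗[A] Kp A p := (Algebra.TensorProduct.includeRight : Kp A p →ₐ[A] B ⊗[A] Kp A p).toRingHom
  have h1 := map_le_of_fibre f I J hfib (U x) (V x) (e x) (Kp A p) (CommRingCat.ofHom (algebraMap A (Kp A p))) C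
    (CommRingCat.ofHom iB) (CommRingCat.ofHom iK) (by
      ext y
      change (φ y) ⊗ₜ[A] (1 : Kp A p) = (1 : B) ⊗ₜ[A] (algebraMap A (Kp A p) y)
      have h5 : (φ y : B) = y • (1 : B) := by
        rw [Algebra.smul_def, mul_one]
        rfl
      rw [h5, TensorProduct.smul_tmul, Algebra.smul_def, mul_one])
  have h2 : iB a ∈ (J.ideal (V x)).map iB := h1 (Ideal.mem_map_of_mem _ ha)
  let q : B ⊗[A] Kp A p →+* (B ⧸ J.ideal (V x)) ⊗[A] Kp A p :=
    (Algebra.TensorProduct.map (Ideal.Quotient.mkₐ A (J.ideal (V x))) (AlgHom.id A (Kp A p))).toRingHom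
  have h3 : q (iB a) = 0 := by
    have h4 : (J.ideal (V x)).map iB ≤ RingHom.ker q := by
      rw [Ideal.map_le_iff_le_comap]
      intro j hj
      rw [Ideal.mem_comap, RingHom.mem_ker]
      change (Ideal.Quotient.mk (J.ideal (V x)) j) ⊗ₜ[A] (1 : Kp A p) = 0
      rw [Ideal.Quotient.eq_zero_iff_mem.2 hj, TensorProduct.zero_tmul]
    exact h4 h2
  exact h3

end K470.FibLe
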