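import Groth.Agent.Flat2D.SliceAway
import Groth.Agent.Ega4dB.FiberStalk
import Groth.Agent.Ega4dB.FlatNak
import Groth.Agent.Flat2E.Thick
import Groth.Agent.Divis.CartierStalk
import Groth.Agent.Divis.RelCartier
import Groth.Prelude.Def_CurvBase

/-!
# Relative effective Cartier divisors, fibre criterion

`φ : X ⟶ S` flat and locally of finite presentation, `𝓘` an ideal sheaf on `X`.
* `exists_fibre_generator`: if `𝓘` is effective Cartier on the fibre through `x` then the ideal of `𝓘` in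
  `O_{X,x}/m_s O_{X,x}` is generated by a nonzerodivisor.
* `exists_nhd`: a section `h` over an affine open, vanishing at `x`, which is a nonzerodivisor on the fibre at `x`, is a
  nonzerodivisor near `x` with flat zero scheme.
* `main`: `𝓘` locally principal and effective Cartier on all fibres: `𝓘` is effective Cartier with flat zero scheme.
* `isLocPrincipal`: zero scheme of `𝓘` flat and l.f.p., effective Cartier on the fibres: `𝓘` is locally principal.
-/

set_option autoImplicit false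
universe u

open CategoryTheory CategoryTheory.Limits AlgebraicGeometry TopologicalSpace IsLocalRing

namespace K470.RelCartFib

open Groth.Agent.Divis.CartierBasic Groth.Agent.Divis.CartierStalk Groth.Agent.Ega4dB.FiberStalk

variable {X S : Scheme.{u}}

theorem stalkIdeal_map_specializes (I : X.IdealSheafData) {x x' : X} (h : x = x') :
    (stalkIdeal I x').map (X.presheaf.stalkSpecializes (specializes_of_eq h)).hom =
      stalkIdeal I x := by
  subst h
  rw [TopCat.Presheaf.stalkSpecializes_refl]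
  exact Ideal.map_id _

lemma nzd_of_span_eq {A : Type*} [CommRing A] {a b : A} (hb : b ∈ nonZeroDivisors A)
    (h : Ideal.span {a} = Ideal.span {b}) : a ∈ nonZeroDivisors A := by
  have h1 : b ∈ Ideal.span {a} := h ▸ Ideal.mem_span_singleton_self b
  obtain ⟨c, rfl⟩ := Ideal.mem_span_singleton'.1 h1
  exact (mul_mem_nonZeroDivisors.1 hb).2

/-- The ideal on the fibre in terms of the local ring `O_{X,x}/m_s O_{X,x}`. -/
theorem exists_fibre_generator (φ : X ⟶ S) (I : X.IdealSheafData) (x : X)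
    (h : BlowUp.IsEffCartierIdeal (I.comap (φ.fiberι (φ x)))) :
    ∃ g ∈ nonZeroDivisors (X.presheaf.stalk x ⧸ fibIdeal φ x),
      (stalkIdeal I x).map (Ideal.Quotient.mk (fibIdeal φ x)) = Ideal.span {g} := by
  obtain ⟨g, hg, hgI⟩ := exists_stalkIdeal_eq_span h (φ.asFiber x)
  rw [stalkIdeal_comap] at hgI
  have h1 : (stalkIdeal I x).map (toFiberStalk φ x).hom =
      (stalkIdeal I (φ.fiberι (φ x) (φ.asFiber x))).map
        ((φ.fiberι (φ x)).stalkMap (φ.asFiber x)).hom := by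
    rw [← stalkIdeal_map_specializes I (φ.fiberι_asFiber x), Ideal.map_map]
    rfl
  rw [← h1] at hgI
  let e := fiberStalkEquiv φ x
  refine ⟨e.symm g, ?_, ?_⟩
  · rw [mem_nonZeroDivisors_iff_right] at hg ⊢
    intro y hy
    have h2 : e y * g = 0 := by
      have := congrArg e hy
      rwa [map_mul, RingEquiv.apply_symm_apply, map_zero] at this
    exact (map_eq_zero_iff e e.injective).1 (hg _ h2)
  · have h3 : (((fiberStalkEquiv φ x).symm : _ →+* _).comp (toFiberStalk φ x).hom) =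
        Ideal.Quotient.mk (fibIdeal φ x) := by
      ext a
      rw [RingHom.comp_apply]
      change (fiberStalkEquiv φ x).symm ((toFiberStalk φ x).hom a) = _
      rw [← fiberStalkEquiv_mk, RingEquiv.symm_apply_apply]
    rw [← h3, ← Ideal.map_map, hgI, Ideal.map_span, Set.image_singleton]
    rfl

/-- a section which is a nonzerodivisor on the fibre at `x` is a nonzerodivisor near `x` with flat zero scheme -/
theorem exists_nhd (φ : X ⟶ S) [LocallyOfFinitePresentation φ] {V : S.Opens} (hV : IsAffineOpen V)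
    {U : X.Opens} (hU : IsAffineOpen U) (hUV : U ≤ φ ⁻¹ᵁ V) (x : X) (hxU : x ∈ U)
    (hflat : (φ.stalkMap x).hom.Flat) (h : Γ(X, U))
    (hm : X.presheaf.germ U x hxU h ∈ maximalIdeal (X.presheaf.stalk x))
    (hreg : Ideal.Quotient.mk (fibIdeal φ x) (X.presheaf.germ U x hxU h) ∈
      nonZeroDivisors (X.presheaf.stalk x ⧸ fibIdeal φ x)) :
    ∃ (g : Γ(X, U)), x ∈ X.basicOpen g ∧
      X.presheaf.map (homOfLE (X.basicOpen_le g)).op h ∈ nonZeroDivisors Γ(X, X.basicOpen g) ∧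
      ((Ideal.Quotient.mk (Ideal.span {X.presheaf.map (homOfLE (X.basicOpen_le g)).op h})).comp
        (φ.appLE V (X.basicOpen g) ((X.basicOpen_le g).trans hUV)).hom).Flat := by
  have hfV : φ x ∈ V := hUV hxU
  letI algRA : Algebra Γ(S, V) Γ(X, U) := (φ.appLE V U hUV).hom.toAlgebra
  letI algRRp : Algebra Γ(S, V) (S.presheaf.stalk (φ x)) := S.presheaf.algebra_section_stalk ⟨φ x, hfV⟩
  letI algAAq : Algebra Γ(X, U) (X.presheaf.stalk x) := X.presheaf.algebra_section_stalk ⟨x, hxU⟩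
  letI algRpAq : Algebra (S.presheaf.stalk (φ x)) (X.presheaf.stalk x) := (φ.stalkMap x).hom.toAlgebra
  letI algRAq : Algebra Γ(S, V) (X.presheaf.stalk x) :=
    ((algebraMap Γ(X, U) (X.presheaf.stalk x)).comp (algebraMap Γ(S, V) Γ(X, U))).toAlgebra
  haveI : IsScalarTower Γ(S, V) Γ(X, U) (X.presheaf.stalk x) := IsScalarTower.of_algebraMap_eq' rfl
  haveI : IsScalarTower Γ(S, V) (S.presheaf.stalk (φ x)) (X.presheaf.stalk x) :=
    IsScalarTower.of_algebraMap_eq fun r => by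
      change X.presheaf.germ U x hxU (φ.appLE V U hUV r) = φ.stalkMap x (S.presheaf.germ V (φ x) hfV r)
      rw [Scheme.Hom.germ_stalkMap_apply, Scheme.Hom.appLE, CommRingCat.comp_apply,
        X.presheaf.germ_res_apply]
  haveI : Algebra.FinitePresentation Γ(S, V) Γ(X, U) :=
    φ.finitePresentation_appLE hV hU hUV
  haveI : IsLocalHom (algebraMap (S.presheaf.stalk (φ x)) (X.presheaf.stalk x)) :=
    inferInstanceAs (IsLocalHom (φ.stalkMap x).hom)
  haveI : IsLocalization.AtPrime (S.presheaf.stalk (φ x)) (hV.primeIdealOf ⟨φ x, hfV⟩).asIdeal :=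
    hV.isLocalization_stalk ⟨φ x, hfV⟩
  haveI : IsLocalization.AtPrime (X.presheaf.stalk x) (hU.primeIdealOf ⟨x, hxU⟩).asIdeal :=
    hU.isLocalization_stalk ⟨x, hxU⟩
  haveI : Module.Flat (S.presheaf.stalk (φ x)) (X.presheaf.stalk x) := hflat
  have hcomap : (hU.primeIdealOf ⟨x, hxU⟩).asIdeal.comap (algebraMap Γ(S, V) Γ(X, U)) =
      (hV.primeIdealOf ⟨φ x, hfV⟩).asIdeal :=
    congrArg PrimeSpectrum.asIdeal (IsAffineOpen.comap_primeIdealOf_appLE V hV U hU hUV hxU)
  have hq : h ∈ (hU.primeIdealOf ⟨x, hxU⟩).asIdeal := by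
    rw [← IsLocalization.AtPrime.to_map_mem_maximal_iff (X.presheaf.stalk x)
      (hU.primeIdealOf ⟨x, hxU⟩).asIdeal h]
    exact hm
  obtain ⟨g, hg, hg2⟩ := Groth.Agent.Flat2D.SliceAway.exists_away (R := Γ(S, V)) (A := Γ(X, U))
    (Rp := S.presheaf.stalk (φ x)) (Aq := X.presheaf.stalk x) (hV.primeIdealOf ⟨φ x, hfV⟩).asIdeal
    (hU.primeIdealOf ⟨x, hxU⟩).asIdeal hcomap h hq (by
      intro b hb
      change X.presheaf.germ U x hxU h * b ∈ fibIdeal φ x at hb
      change b ∈ fibIdeal φ x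
      rw [← Ideal.Quotient.eq_zero_iff_mem]
      rw [mem_nonZeroDivisors_iff_right] at hreg
      apply hreg
      rw [← map_mul, mul_comm, Ideal.Quotient.eq_zero_iff_mem]
      exact hb)
  have hxg : x ∈ X.basicOpen g := by
    rw [X.mem_basicOpen g x hxU]
    exact (IsLocalization.AtPrime.isUnit_to_map_iff (X.presheaf.stalk x)
      (hU.primeIdealOf ⟨x, hxU⟩).asIdeal g).mpr hg
  haveI hloc : IsLocalization.Away g Γ(X, X.basicOpen g) := hU.isLocalization_basicOpen g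
  have hle : X.basicOpen g ≤ U := X.basicOpen_le g
  have hUV' : X.basicOpen g ≤ φ ⁻¹ᵁ V := hle.trans hUV
  letI algRAg : Algebra Γ(S, V) Γ(X, X.basicOpen g) := (φ.appLE V (X.basicOpen g) hUV').hom.toAlgebra
  have hmap : ∀ a : Γ(X, U), algebraMap Γ(X, U) Γ(X, X.basicOpen g) a =
      X.presheaf.map (homOfLE hle).op a := fun _ => rfl
  haveI : IsScalarTower Γ(S, V) Γ(X, U) Γ(X, X.basicOpen g) :=
    IsScalarTower.of_algebraMap_eq fun r => by
      rw [hmap]
      change φ.appLE V (X.basicOpen g) hUV' r = X.presheaf.map (homOfLE hle).op (φ.appLE V U hUV r)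
      rw [← CommRingCat.comp_apply, Scheme.Hom.appLE_map]
  obtain ⟨hnzd, hfl⟩ := hg2 Γ(X, X.basicOpen g)
  rw [hmap] at hnzd hfl
  exact ⟨g, hxg, hnzd, hfl⟩

/-- Around a point of the support, for a locally principal ideal which is effective Cartier on the fibre. -/
theorem exists_nhd_ideal (φ : X ⟶ S) [LocallyOfFinitePresentation φ] (𝓘 : X.IdealSheafData) (x : X)
    (hflat : (φ.stalkMap x).hom.Flat) (hx : x ∈ 𝓘.support)
    (hZ : ∃ U : X.affineOpens, x ∈ (U : X.Opens) ∧ ∃ f : Γ(X, U), 𝓘.ideal U = Ideal.span {f})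
    (hfib : BlowUp.IsEffCartierIdeal (𝓘.comap (φ.fiberι (φ x)))) :
    ∃ (U : S.affineOpens) (V : X.affineOpens) (_ : x ∈ V.1) (e : V.1 ≤ φ ⁻¹ᵁ U.1),
      (∃ f ∈ nonZeroDivisors Γ(X, V.1), 𝓘.ideal V = Ideal.span {f}) ∧
      (Groth.Agent.Divis.RelCartier.quotMap φ 𝓘 U.1 V e).Flat := by
  obtain ⟨V₀, hxV₀, f₀, hf₀⟩ := hZ
  obtain ⟨U, V₁, hxV₁, e₁, e₁'⟩ := Groth.Agent.Divis.RelCartier.exists_affine_le φ x V₀.1 hxV₀
  -- the generator on `V₁`
  let f₁ : Γ(X, V₁.1) := X.presheaf.map (homOfLE e₁').op f₀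
  have hf₁ : 𝓘.ideal V₁ = Ideal.span {f₁} :=
    Groth.Agent.Divis.RelCartier.restrict_ideal_eq_span e₁' hf₀
  have hst : stalkIdeal 𝓘 x = Ideal.span {X.presheaf.germ V₁.1 x hxV₁ f₁} := by
    rw [stalkIdeal_eq 𝓘 V₁ hxV₁, hf₁, Ideal.map_span, Set.image_singleton]
  have hm : X.presheaf.germ V₁.1 x hxV₁ f₁ ∈ maximalIdeal (X.presheaf.stalk x) := by
    have h1 := (mem_support_iff_stalkIdeal_le 𝓘 x).1 hx
    exact h1 (hst ▸ Ideal.mem_span_singleton_self _)
  obtain ⟨g₀, hg₀, hg₀I⟩ := exists_fibre_generator φ 𝓘 x hfib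
  rw [hst, Ideal.map_span, Set.image_singleton] at hg₀I
  have hreg := nzd_of_span_eq hg₀ hg₀I
  obtain ⟨g, hxg, hnzd, hfl⟩ := exists_nhd φ U.2 V₁.2 e₁ x hxV₁ hflat f₁ hm hreg
  have hI : 𝓘.ideal ⟨X.basicOpen g, V₁.2.basicOpen g⟩ =
      Ideal.span {X.presheaf.map (homOfLE (X.basicOpen_le g)).op f₁} :=
    Groth.Agent.Divis.RelCartier.restrict_ideal_eq_span (V := V₁)
      (V' := ⟨X.basicOpen g, V₁.2.basicOpen g⟩) (X.basicOpen_le g) hf₁
  refine ⟨U, ⟨X.basicOpen g, V₁.2.basicOpen g⟩, hxg, (X.basicOpen_le g).trans e₁, ⟨_, hnzd, hI⟩, ?_⟩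
  rw [← hI] at hfl
  exact hfl

/-- Fibre criterion for locally principal ideals. -/
theorem main (φ : X ⟶ S) [Flat φ] [LocallyOfFinitePresentation φ]
    (𝓘 : X.IdealSheafData) (hZ : Curv2.IsLocPrincipal 𝓘)
    (hfib : ∀ s : S, BlowUp.IsEffCartierIdeal (𝓘.comap (φ.fiberι s))) :
    BlowUp.IsEffCartierIdeal 𝓘 ∧ Flat (𝓘.subschemeι ≫ φ) := by
  have key : ∀ x : X, ∃ (U : S.affineOpens) (V : X.affineOpens) (_ : x ∈ V.1) (e : V.1 ≤ φ ⁻¹ᵁ U.1),
      (∃ f ∈ nonZeroDivisors Γ(X, V.1), 𝓘.ideal V = Ideal.span {f}) ∧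
      (Groth.Agent.Divis.RelCartier.quotMap φ 𝓘 U.1 V e).Flat := by
    intro x
    by_cases hx : x ∈ 𝓘.support
    · exact exists_nhd_ideal φ 𝓘 x (Flat.stalkMap φ x) hx (hZ x hx) (hfib _)
    · obtain ⟨U, V, hxV, e, e'⟩ := Groth.Agent.Divis.RelCartier.exists_affine_le φ x 𝓘.support.compl hx
      have htop : 𝓘.ideal V = ⊤ := by
        rw [Ideal.eq_top_iff_one]
        have : (1 : Γ(X, V.1)) ∈ 𝓘.ideal V := by
          rw [V.2.mem_ideal_iff]
          intro y hy
          rw [map_one, ← stalkIdeal_eq 𝓘 V hy, (notMem_support_iff_stalkIdeal_eq_top 𝓘 y).1 (e' hy)]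
          trivial
        exact this
      refine ⟨U, V, hxV, e, ⟨1, one_mem _, by rw [htop, Ideal.span_singleton_one]⟩, ?_⟩
      have hsub : Subsingleton (Γ(X, V.1) ⧸ 𝓘.ideal V) := by
        rw [htop]; exact Ideal.Quotient.subsingleton_iff.2 rfl
      algebraize [Groth.Agent.Divis.RelCartier.quotMap φ 𝓘 U.1 V e]
      change Module.Flat _ _
      infer_instance
  refine ⟨fun x => ?_, Groth.Agent.Divis.RelCartier.flat_of_quotMap φ 𝓘 fun x => ?_⟩
  · obtain ⟨U, V, hxV, e, ⟨f, hf, hI⟩, -⟩ := key x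
    exact ⟨V, hxV, f, hf, hI⟩
  · obtain ⟨U, V, hxV, e, -, h⟩ := key x
    exact ⟨U, V, hxV, e, h⟩

theorem ker_fg {A B : Type u} [CommRing A] [CommRing B] (f : A →+* B)
    (hf : f.FinitePresentation) (hs : Function.Surjective f) : (RingHom.ker f).FG := by
  algebraize [f]
  exact Algebra.FinitePresentation.ker_fG_of_surjective (Algebra.ofId A B) hs

theorem ideal_fg (𝓘 : X.IdealSheafData) [LocallyOfFinitePresentation 𝓘.subschemeι]
    (U : X.affineOpens) : (𝓘.ideal U).FG := by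
  have h0 : 𝓘.ideal U = RingHom.ker (𝓘.subschemeι.app U.1).hom := by
    conv_lhs => rw [← 𝓘.ker_subschemeι]
    rw [Scheme.Hom.ker_apply]
  rw [h0]
  refine ker_fg _ ?_ (𝓘.subschemeι.app_surjective U.1 U.2)
  have h1 := 𝓘.subschemeι.finitePresentation_appLE U.2 (U.2.preimage 𝓘.subschemeι) le_rfl
  rwa [Scheme.Hom.appLE_eq_app] at h1

/-- A finite type ideal whose stalk at `x` is principal is principal near `x`. -/
theorem exists_generator_near (𝓘 : X.IdealSheafData) (x : X) (V : X.affineOpens) (hxV : x ∈ V.1)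
    (hfg : (𝓘.ideal V).FG) (h : X.presheaf.stalk x) (hI : stalkIdeal 𝓘 x = Ideal.span {h}) :
    ∃ U : X.affineOpens, x ∈ (U : X.Opens) ∧ U.1 ≤ V.1 ∧ ∃ f : Γ(X, U), 𝓘.ideal U = Ideal.span {f} := by
  letI := X.presheaf.algebra_section_stalk (⟨x, hxV⟩ : V.1)
  have := V.2.isLocalization_stalk ⟨x, hxV⟩
  rw [stalkIdeal_eq 𝓘 V hxV] at hI
  obtain ⟨t, ht, f, hf, -, hb⟩ := Groth.Agent.Divis.CartierAlg.exists_generator
    (V.2.primeIdealOf ⟨x, hxV⟩).asIdeal (𝓘.ideal V) hfg (X.presheaf.stalk x) h hI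
  have hxt : x ∈ X.basicOpen t := by
    rw [X.mem_basicOpen t x hxV]
    exact (IsLocalization.AtPrime.isUnit_to_map_iff (X.presheaf.stalk x)
      (V.2.primeIdealOf ⟨x, hxV⟩).asIdeal t).mpr ht
  have hloc : IsLocalization.Away t Γ(X, X.basicOpen t) := V.2.isLocalization_basicOpen t
  have key : (𝓘.ideal V).map (algebraMap Γ(X, V.1) Γ(X, X.basicOpen t)) =
      Ideal.span {algebraMap Γ(X, V.1) Γ(X, X.basicOpen t) f} := by
    apply le_antisymm
    · rw [Ideal.map_le_iff_le_comap]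
      intro a ha
      obtain ⟨b, hb⟩ := hb a ha
      rw [Ideal.mem_comap]
      have hu : IsUnit (algebraMap Γ(X, V.1) Γ(X, X.basicOpen t) t) :=
        IsLocalization.Away.algebraMap_isUnit t
      rw [← Ideal.unit_mul_mem_iff_mem _ hu, ← map_mul, hb, map_mul]
      exact Ideal.mul_mem_left _ _ (Ideal.mem_span_singleton_self _)
    · rw [Ideal.span_singleton_le_iff_mem]
      exact Ideal.mem_map_of_mem _ hf
  exact ⟨X.affineBasicOpen t, hxt, X.basicOpen_le t, algebraMap Γ(X, V.1) Γ(X, X.basicOpen t) f,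
    (ideal_basicOpen 𝓘 V t).trans key⟩

/-- the zero scheme flat and l.f.p. and effective Cartier on fibres: locally principal -/
theorem isLocPrincipal (φ : X ⟶ S) [LocallyOfFinitePresentation φ]
    (𝓘 : X.IdealSheafData) [Flat (𝓘.subschemeι ≫ φ)] [LocallyOfFinitePresentation (𝓘.subschemeι ≫ φ)]
    (hfib : ∀ s : S, BlowUp.IsEffCartierIdeal (𝓘.comap (φ.fiberι s))) : Curv2.IsLocPrincipal 𝓘 := by
  intro x hx
  obtain ⟨d, rfl⟩ := exists_subscheme_apply_eq 𝓘 hx
  have hlfp : LocallyOfFinitePresentation 𝓘.subschemeι :=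
    Groth.Agent.Flat2E.Thick.locallyOfFinitePresentation_of_comp 𝓘.subschemeι φ
  obtain ⟨V, hxV⟩ := exists_affine (𝓘.subschemeι d)
  obtain ⟨g, hg, hgI⟩ := exists_fibre_generator φ 𝓘 (𝓘.subschemeι d) (hfib _)
  have hg' : g ∈ (stalkIdeal 𝓘 (𝓘.subschemeι d)).map (Ideal.Quotient.mk (fibIdeal φ (𝓘.subschemeι d))) := by
    rw [hgI]; exact Ideal.mem_span_singleton_self g
  obtain ⟨h, hh, rfl⟩ := (Ideal.mem_map_iff_of_surjective _ Ideal.Quotient.mk_surjective).1 hg'
  have hY : ((𝓘.subschemeι ≫ φ).stalkMap d).hom.Flat := Flat.stalkMap _ d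
  have hcomp : ((𝓘.subschemeι ≫ φ).stalkMap d).hom =
      (𝓘.subschemeι.stalkMap d).hom.comp (φ.stalkMap (𝓘.subschemeι d)).hom := by
    rw [Scheme.Hom.stalkMap_comp]; rfl
  have hker : RingHom.ker (𝓘.subschemeι.stalkMap d).hom = stalkIdeal 𝓘 (𝓘.subschemeι d) :=
    ker_stalkMap_subschemeι 𝓘 d
  have hflat : ((Ideal.Quotient.mk (stalkIdeal 𝓘 (𝓘.subschemeι d))).comp
      (φ.stalkMap (𝓘.subschemeι d)).hom).Flat := by
    rw [hcomp] at hY
    let e := (Ideal.quotEquivOfEq hker.symm).trans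
      (RingHom.quotientKerEquivOfSurjective (𝓘.subschemeι.stalkMap_surjective d))
    have h2 : ((Ideal.Quotient.mk (stalkIdeal 𝓘 (𝓘.subschemeι d))).comp (φ.stalkMap (𝓘.subschemeι d)).hom) =
        (e.symm : _ →+* _).comp ((𝓘.subschemeι.stalkMap d).hom.comp (φ.stalkMap (𝓘.subschemeι d)).hom) := by
      ext a
      rw [RingHom.comp_apply, RingHom.comp_apply]
      apply e.injective
      erw [RingEquiv.apply_symm_apply]
      rfl
    rw [h2]
    exact RingHom.Flat.comp hY (RingHom.Flat.of_bijective e.symm.bijective)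
  let algA : Algebra (S.presheaf.stalk (φ (𝓘.subschemeι d))) (X.presheaf.stalk (𝓘.subschemeι d)) :=
    (φ.stalkMap (𝓘.subschemeι d)).hom.toAlgebra
  have hlocA' : IsLocalHom (algebraMap (S.presheaf.stalk (φ (𝓘.subschemeι d)))
      (X.presheaf.stalk (𝓘.subschemeι d))) :=
    inferInstanceAs (IsLocalHom (φ.stalkMap (𝓘.subschemeι d)).hom)
  have hfl : Module.Flat (S.presheaf.stalk (φ (𝓘.subschemeι d)))
      (X.presheaf.stalk (𝓘.subschemeι d) ⧸ stalkIdeal 𝓘 (𝓘.subschemeι d)) := hflat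
  have hJ : stalkIdeal 𝓘 (𝓘.subschemeι d) = Ideal.ofList [h] := by
    refine Groth.Agent.Ega4dB.FlatNak.eq_ofList_of_map_eq (R := S.presheaf.stalk (φ (𝓘.subschemeι d)))
      (stalkIdeal 𝓘 (𝓘.subschemeι d)) ?_ [h] (by simpa using hh) ?_
    · rw [stalkIdeal_eq _ V hxV]
      exact (ideal_fg 𝓘 V).map _
    · intro a ha
      have h4 := Ideal.mem_map_of_mem (Ideal.Quotient.mk (fibIdeal φ (𝓘.subschemeι d))) ha
      rw [hgI, Ideal.mem_span_singleton'] at h4
      obtain ⟨b, hb⟩ := h4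
      obtain ⟨b, rfl⟩ := Ideal.Quotient.mk_surjective b
      rw [← map_mul, Ideal.Quotient.eq] at hb
      have h5 : a = b * h - (b * h - a) := by ring
      rw [h5]
      refine Submodule.sub_mem_sup (Ideal.mul_mem_left _ _ (Ideal.subset_span (by simp))) hb
  obtain ⟨U, hxU, -, f, hf⟩ := exists_generator_near 𝓘 _ V hxV (ideal_fg 𝓘 V) h
    (by rw [hJ, Ideal.ofList_singleton])
  exact ⟨U, hxU, f, hf⟩

end K470.RelCartFib
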