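import Mathlib.RingTheory.Flat.Equalizer
import Mathlib.RingTheory.Flat.Tensor
import Mathlib.RingTheory.Flat.Localization
import Mathlib.RingTheory.Localization.BaseChange
import Mathlib.RingTheory.Localization.Away.Basic

/-!
# Flatness from a quotient by a nonzerodivisor and the localization

`flat_of_flat_quotient_of_flat_away`: `B` an `A`-algebra, `k ∈ B` a nonzerodivisor with `B/k` and `B_k` flat over
`A`; then `B` is flat over `A`.
-/

set_option autoImplicit false
open TensorProduct

namespace K470.FlatAway

theorem flat_of_flat_quotient_of_flat_away {A B Bk : Type*} [CommRing A] [CommRing B] [CommRing Bk]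
    [Algebra A B] [Algebra B Bk] [Algebra A Bk] [IsScalarTower A B Bk] (k : B)
    (hk : k ∈ nonZeroDivisors B) [IsLocalization.Away k Bk] [Module.Flat A Bk]
    (hq : Module.Flat A (B ⧸ Ideal.span {k})) : Module.Flat A B := by
  rw [Module.Flat.iff_lTensor_injective']
  intro I
  let μ : B →ₗ[A] B := LinearMap.mulLeft A k
  have hμ : Function.Injective μ := by
    rw [injective_iff_map_eq_zero]
    intro x hx
    exact (mul_left_mem_nonZeroDivisors_eq_zero_iff hk).1 hx
  have hex : Function.Exact μ (Ideal.Quotient.mkₐ A (Ideal.span {k})).toLinearMap := by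
    intro x
    change Ideal.Quotient.mk (Ideal.span {k}) x = 0 ↔ _
    rw [Ideal.Quotient.eq_zero_iff_mem, Ideal.mem_span_singleton]
    constructor
    · rintro ⟨y, rfl⟩; exact ⟨y, rfl⟩
    · rintro ⟨y, rfl⟩; exact ⟨y, rfl⟩
  have h1 : Function.Injective (μ.lTensor I) :=
    LinearMap.lTensor_injective_of_exact_of_flat _ Ideal.Quotient.mk_surjective μ hμ hex I
  have h1' : IsSMulRegular (B ⊗[A] I) k := by
    intro x y hxy
    apply (TensorProduct.comm A B I).injective
    apply h1
    have key : ∀ z : B ⊗[A] I, (μ.lTensor I) (TensorProduct.comm A B I z) = TensorProduct.comm A B I (k • z) := by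
      intro z
      induction z with
      | zero => simp
      | add a b ha hb => simp [ha, hb, smul_add]
      | tmul a b => simp [μ, TensorProduct.smul_tmul']
    rw [key, key]
    exact congrArg _ hxy
  rw [injective_iff_map_eq_zero]
  intro x hx
  let g : B →ₗ[B] Bk := Algebra.linearMap B Bk
  have h2 : (AlgebraTensorModule.rTensor A I g) x = 0 := by
    apply Module.Flat.lTensor_preserves_injective_linearMap (M := Bk) I.subtype Subtype.val_injective
    rw [map_zero]
    have key : ∀ z : B ⊗[A] I, (I.subtype.lTensor Bk) ((AlgebraTensorModule.rTensor A I g) z) =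
        (AlgebraTensorModule.rTensor A A g) ((I.subtype.lTensor B) z) := by
      intro z
      induction z with
      | zero => simp
      | add a b ha hb => simp only [map_add, ha, hb]
      | tmul a b => simp
    rw [key, hx, map_zero]
  rw [IsLocalizedModule.eq_zero_iff (Submonoid.powers k)] at h2
  obtain ⟨⟨_, n, rfl⟩, hn⟩ := h2
  exact (h1'.pow n) (hn.trans (smul_zero _).symm)

end K470.FlatAway
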