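import Groth.Agent.SDiv.K470.GenericReg
import Groth.Agent.SDiv.K473.RegImmCalc
import Groth.Agent.Divis.RegImm
import Mathlib.AlgebraicGeometry.Morphisms.Smooth
import Mathlib.AlgebraicGeometry.Morphisms.UnderlyingMap

/-!
# Koszul-regular immersions become regular after a smooth surjective base change
-/

set_option autoImplicit false
universe u

open CategoryTheory CategoryTheory.Limits AlgebraicGeometry TopologicalSpace

namespace K470.SmoothReg

open K473.RegImmCalc

/-- Sections over an affine chart given by an open immersion from a spectrum. -/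
theorem exists_iso_appLE {X' X : Scheme.{u}} {R : CommRingCat.{u}} (ι : Spec R ⟶ X') [IsOpenImmersion ι]
    (g : X' ⟶ X) {U : X.Opens} (hU : IsAffineOpen U) (φ : Γ(X, U) ⟶ R) (h : ι ≫ g = Spec.map φ ≫ hU.fromSpec) :
    ∃ (e : ι.opensRange ≤ g ⁻¹ᵁ U) (θ : Γ(X', ι.opensRange) ≅ R), g.appLE U ι.opensRange e ≫ θ.hom = φ := by
  have hV : IsAffineOpen ι.opensRange := isAffineOpen_opensRange ι
  have e : ι.opensRange ≤ g ⁻¹ᵁ U := by
    rintro _ ⟨y, rfl⟩
    change g (ι y) ∈ U
    rw [← Scheme.Hom.comp_apply, h, Scheme.Hom.comp_apply]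
    have h1 : hU.fromSpec (Spec.map φ y) ∈ hU.fromSpec.opensRange := ⟨_, rfl⟩
    rwa [hU.opensRange_fromSpec] at h1
  let a : Spec R ⟶ Spec Γ(X', ι.opensRange) := IsOpenImmersion.lift hV.fromSpec ι
    (by rw [hV.range_fromSpec]; rfl)
  have ha : a ≫ hV.fromSpec = ι := IsOpenImmersion.lift_fac _ _ _
  have hiso : IsIso a := by
    have h1 : IsOpenImmersion (a ≫ hV.fromSpec) := by rw [ha]; infer_instance
    have h2 : IsOpenImmersion a := IsOpenImmersion.of_comp a hV.fromSpec
    have h3 : Epi a.base := by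
      rw [TopCat.epi_iff_surjective]
      intro y
      have h4 : hV.fromSpec y ∈ Set.range ι := by
        have : hV.fromSpec y ∈ Set.range hV.fromSpec := ⟨y, rfl⟩
        rwa [hV.range_fromSpec] at this
      obtain ⟨x, hx⟩ := h4
      refine ⟨x, hV.fromSpec.isOpenEmbedding.injective ?_⟩
      rw [← hx]
      change hV.fromSpec (a x) = _
      rw [← Scheme.Hom.comp_apply, ha]
    exact IsOpenImmersion.isIso a
  obtain ⟨θ, hθ⟩ := Spec.map_surjective a
  have hθi : IsIso θ := by
    have h5 : IsIso (Scheme.Spec.map θ.op) := by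
      change IsIso (Spec.map θ)
      rw [hθ]
      exact hiso
    have h6 : IsIso θ.op := isIso_of_reflects_iso θ.op Scheme.Spec
    exact isIso_of_op θ
  refine ⟨e, asIso θ, ?_⟩
  apply Spec.map_injective
  rw [← cancel_mono hU.fromSpec, ← h, asIso_hom, Spec.map_comp, Category.assoc,
    IsAffineOpen.SpecMap_appLE_fromSpec g hU hV e, hθ, reassoc_of% ha]

/-- A local piece of the cover. -/
structure Piece {Z X : Scheme.{u}} (i : Z ⟶ X) where
  /-- an affine open -/
  U : X.affineOpens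
  /-- the variables -/
  σ : Type
  fin : Finite σ
  /-- the sequence -/
  g : List (MvPolynomial σ Γ(X, U.1))
  reg : RingTheory.Sequence.IsWeaklyRegular (MvPolynomial σ Γ(X, U.1)) g
  ofList : Ideal.ofList g = (RingHom.ker (i.app U.1).hom).map MvPolynomial.C
  closed : IsClosedImmersion (i ∣_ U.1)

theorem exists_piece {Z X : Scheme.{u}} {i : Z ⟶ X} {z : Z}
    (hi : RegImm.IsRegularImmersionAt RegImm.Kind.koszul i z) : ∃ P : Piece i, i z ∈ P.U.1 := by
  obtain ⟨U, hU, hc, f, hf, hk⟩ := hi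
  obtain ⟨σ, hσ, g, hg, hgI⟩ := GenericReg.exists_generic f.length Γ(X, U.1) f rfl hf
  exact ⟨⟨U, σ, hσ, g, hg, by rw [hgI, hk], hc⟩, hU⟩

namespace Piece

variable {Z X : Scheme.{u}} {i : Z ⟶ X} (P : Piece i)

/-- the affine space over the piece -/
noncomputable def obj : Scheme.{u} := Spec (CommRingCat.of (MvPolynomial P.σ Γ(X, P.U.1)))

/-- the structure morphism -/
noncomputable def hom : P.obj ⟶ X :=
  Spec.map (CommRingCat.ofHom (MvPolynomial.C : Γ(X, P.U.1) →+* MvPolynomial P.σ Γ(X, P.U.1))) ≫ P.U.2.fromSpec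

instance smooth_hom : Smooth P.hom := by
  have := P.fin
  have h1 : Smooth (Spec.map (CommRingCat.ofHom (MvPolynomial.C : Γ(X, P.U.1) →+* MvPolynomial P.σ Γ(X, P.U.1)))) := by
    rw [HasRingHomProperty.Spec_iff (P := @Smooth)]
    change (algebraMap Γ(X, P.U.1) (MvPolynomial P.σ Γ(X, P.U.1))).Smooth
    rw [RingHom.smooth_algebraMap]
    constructor <;> infer_instance
  have h2 : Smooth P.U.2.fromSpec := inferInstance
  exact MorphismProperty.comp_mem _ _ _ h1 h2

lemma mem_range {x : X} (hx : x ∈ P.U.1) : x ∈ Set.range P.hom := by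
  rw [← P.U.2.opensRange_fromSpec] at hx
  obtain ⟨y, rfl⟩ := hx
  have h1 : Function.Surjective (Spec.map (CommRingCat.ofHom
      (MvPolynomial.C : Γ(X, P.U.1) →+* MvPolynomial P.σ Γ(X, P.U.1)))) := by
    have h2 : Spec.map (CommRingCat.ofHom ((MvPolynomial.aeval (R := Γ(X, P.U.1)) (fun _ : P.σ => (0 : Γ(X, P.U.1)))).toRingHom)) ≫
      Spec.map (CommRingCat.ofHom
      (MvPolynomial.C : Γ(X, P.U.1) →+* MvPolynomial P.σ Γ(X, P.U.1))) = 𝟙 _ := by
      rw [← Spec.map_comp, ← CommRingCat.ofHom_comp, ← Spec.map_id]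
      congr 1
      ext x
      simp
    intro y
    exact ⟨_, by rw [← Scheme.Hom.comp_apply, h2]; rfl⟩
  obtain ⟨w, rfl⟩ := h1 y
  exact ⟨w, by unfold hom; rw [Scheme.Hom.comp_apply]; rfl⟩

end Piece

theorem main {Z X : Scheme.{u}} (i : Z ⟶ X) [IsClosedImmersion i]
    (hi : RegImm.IsRegularImmersion RegImm.Kind.koszul i) :
    ∃ (X' : Scheme.{u}) (g : X' ⟶ X), Smooth g ∧ Surjective g ∧
      RegImm.IsRegularImmersion RegImm.Kind.regular (pullback.snd i g) := by
  choose P hP using fun z => exists_piece (hi.2 z)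
  let W : X.Opens := ⟨(Set.range i)ᶜ, i.isClosedEmbedding.isClosed_range.isOpen_compl⟩
  let Y : Option Z → Scheme.{u} := fun j => j.elim (W : Scheme.{u}) (fun z => (P z).obj)
  let f : ∀ j, Y j ⟶ X := fun j => match j with
    | none => W.ι
    | some z => (P z).hom
  have hsm : ∀ j, Smooth (f j) := fun j => match j with
    | none => (inferInstance : Smooth W.ι)
    | some z => (P z).smooth_hom
  let g := Sigma.desc f
  have hg : Smooth g := IsZariskiLocalAtSource.sigmaDesc (P := @Smooth) hsm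
  have hs : Surjective g := by
    apply Surjective.sigmaDesc_of_union_range_eq_univ
    rw [Set.iUnion_eq_univ_iff]
    intro x
    by_cases hx : x ∈ Set.range i
    · obtain ⟨z, rfl⟩ := hx
      exact ⟨some z, (P z).mem_range (hP z)⟩
    · refine ⟨none, ?_⟩
      change x ∈ Set.range W.ι
      rw [Scheme.Opens.range_ι]
      exact hx
  refine ⟨_, g, hg, hs, inferInstance, fun z' => ?_⟩
  let i' := pullback.snd i g
  obtain ⟨j, y, hy⟩ : ∃ j y, Sigma.ι Y j y = i' z' := by
    obtain ⟨⟨j, y⟩, hy⟩ := (sigmaMk Y).surjective (i' z')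
    exact ⟨j, y, by rw [← hy, sigmaMk_mk]⟩
  have hpb : IsPullback (pullback.fst i g) i' i g := IsPullback.of_hasPullback i g
  have hgi : g (i' z') = i (pullback.fst i g z') := by
    rw [← Scheme.Hom.comp_apply, ← Scheme.Hom.comp_apply, hpb.w]
  cases j with
  | none =>
    exfalso
    have h1 : g (Sigma.ι Y none y) = W.ι y := by
      rw [← Scheme.Hom.comp_apply, Sigma.ι_desc]
      rfl
    rw [hy, hgi] at h1
    have h2 : W.ι y ∈ W := by
      have : W.ι y ∈ Set.range W.ι := ⟨y, rfl⟩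
      rwa [Scheme.Opens.range_ι] at this
    rw [← h1] at h2
    exact h2 ⟨_, rfl⟩
  | some z =>
    let Q := P z
    let R : CommRingCat.{u} := CommRingCat.of (MvPolynomial Q.σ Γ(X, Q.U.1))
    let ι : Spec R ⟶ ∐ Y := Sigma.ι Y (some z)
    have hι : IsOpenImmersion ι := inferInstanceAs (IsOpenImmersion (Sigma.ι Y (some z)))
    obtain ⟨e, θ, hθ⟩ := exists_iso_appLE ι g Q.U.2 (CommRingCat.ofHom MvPolynomial.C)
      (by exact Sigma.ι_desc _ _)
    have hV : IsAffineOpen ι.opensRange := isAffineOpen_opensRange ι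
    obtain ⟨hc, hk⟩ := ker_app_of_isPullback hpb Q.U.2 hV e Q.closed
    have hmem : i' z' ∈ ι.opensRange := ⟨y, hy⟩
    have hE : RingHom.ker (i'.app ι.opensRange).hom = Ideal.ofList (Q.g.map θ.commRingCatIsoToRingEquiv.symm) := by
      have h3 : (Ideal.ofList Q.g).map (θ.inv.hom : _ →+* Γ(∐ Y, ι.opensRange)) =
          Ideal.ofList (Q.g.map θ.commRingCatIsoToRingEquiv.symm) := Ideal.map_ofList _ _
      rw [← h3, Q.ofList, hk, Ideal.map_map]
      congr 1
      have h4 : g.appLE Q.U.1 ι.opensRange e = CommRingCat.ofHom MvPolynomial.C ≫ θ.inv := by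
        rw [← hθ, Category.assoc, Iso.hom_inv_id, Category.comp_id]
      rw [h4]
      rfl
    refine ⟨⟨ι.opensRange, hV⟩, hmem, hc, Q.g.map θ.commRingCatIsoToRingEquiv.symm, ?_, hE⟩
    refine (Groth.Agent.Divis.RegImm.isRegular_iff_ne_top _).2
      ⟨GenericReg.isWeaklyRegular_map_equiv θ.commRingCatIsoToRingEquiv.symm Q.g Q.reg, ?_⟩
    rw [← hE]
    exact ker_app_ne_top hmem

end K470.SmoothReg
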