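import Groth.Agent.S2127
import Groth.Agent.Divis.NormSheaf
import Groth.Agent.Ega2.H275.FrameNorm
import Groth.Agent.PerfB.PushFLF
import Groth.Agent.CohqA.IntClosed
import Groth.Agent.Dcoh.LocalFree
import Groth.Prelude.Def_Mor2
import Mathlib.AlgebraicGeometry.Morphisms.QuasiFinite

/-!
# Quasi-affine schemes and finite surjective morphisms

* `isQuasiAffine_of_norm`: `π : X ⟶ Y` finite surjective, `X` quasi-affine, with a norm map on global functions; then
  `Y` is quasi-affine.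
* `of_normal`, `of_finLocFree`: the cases `Y` integral normal, `π` finite locally free.
-/

set_option autoImplicit false
universe u

open CategoryTheory CategoryTheory.Limits AlgebraicGeometry TopologicalSpace

namespace K470.QAffDesc

open Groth.Agent.Fdesc.LocGen Groth.Agent.Flat2H.FamExt Groth.Agent.Ega2.H275.FrameNorm

theorem isQuasiAffine_of_norm {X Y : Scheme.{u}} (π : X ⟶ Y) [IsFinite π] [Surjective π] [X.IsQuasiAffine]
    (hN : ∀ b : Γ(X, ⊤), ∃ s : Γ(Y, ⊤), ∀ y, y ∈ Y.basicOpen s ↔ ∀ x, π x = y → x ∈ X.basicOpen b) :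
    Y.IsQuasiAffine := by
  have hcY : CompactSpace Y := ⟨by
    rw [← π.surjective.range_eq, ← Set.image_univ]
    exact isCompact_univ.image π.continuous⟩
  refine Scheme.IsQuasiAffine.of_forall_exists_mem_basicOpen Y fun y => ?_
  obtain ⟨V, hV, hyV, -⟩ := exists_isAffineOpen_mem_and_subset (U := ⊤) (x := y) trivial
  obtain ⟨b, -, hyb, hbV⟩ := Groth.Agent.S2127.exists_basicOpen (π ⁻¹ᵁ V) (π ⁻¹' {y})
    (π.finite_preimage_singleton y) (fun x hx ↦ by
      change π x ∈ V
      rwa [show π x = y from hx])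
  obtain ⟨s, hs⟩ := hN b
  have hle : Y.basicOpen s ≤ V := fun z hz => by
    obtain ⟨x, rfl⟩ := π.surjective z
    exact hbV ((hs _).1 hz x rfl)
  refine ⟨s, ?_, (hs y).2 fun x hx => hyb hx⟩
  have h1 : Y.basicOpen s = Y.basicOpen (Y.presheaf.map (homOfLE (le_top : V ≤ ⊤)).op s) := by
    rw [Scheme.basicOpen_res, inf_eq_right.2 hle]
  rw [h1]
  exact hV.basicOpen _

theorem of_normal {X Y : Scheme.{u}} (π : X ⟶ Y) [IsFinite π] [Surjective π] [X.IsQuasiAffine] [IsIntegral Y]
    (hY : Pi1.IsNormalScheme Y) : Y.IsQuasiAffine := by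
  obtain ⟨x, hx⟩ := π.surjective (genericPoint Y)
  obtain ⟨Z, i, hi, hZ, hiZ⟩ := Groth.Agent.CohqA.IntClosed.exists_integral x
  have h1 : IsFinite (i ≫ π) := inferInstance
  have h2 : Surjective (i ≫ π) := by
    constructor
    rw [← Set.range_eq_univ]
    have hcl : IsClosed (Set.range (i ≫ π)) := (i ≫ π).isClosedMap.isClosed_range
    have h1 : genericPoint Y ∈ Set.range (i ≫ π) := ⟨genericPoint Z, by
      rw [Scheme.Hom.comp_apply, hiZ, hx]⟩
    exact Set.eq_univ_of_univ_subset ((genericPoint_spec Y).mem_closed_set_iff hcl |>.1 h1)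
  have h3 : Z.IsQuasiAffine := Scheme.IsQuasiAffine.of_isAffineHom i
  refine isQuasiAffine_of_norm (i ≫ π) fun b => ?_
  refine ⟨Groth.Agent.Divis.NormSheaf.Nm (π := i ≫ π) hY (V := ⊤) trivial b, fun y => ?_⟩
  rw [Groth.Agent.Divis.NormSheaf.basicOpen_Nm, Groth.Agent.Divis.NormSheaf.mem_core]
  exact Iff.rfl

theorem of_finLocFree {X Y : Scheme.{u}} (π : X ⟶ Y) [IsFinite π] [Surjective π] [X.IsQuasiAffine]
    [Flat π] [LocallyOfFinitePresentation π] : Y.IsQuasiAffine := by
  have hfree : FlatMod.IsFinLocFree ((Coh.push π).obj (Coh.structureModule X)) :=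
    Groth.Agent.PerfB.PushFLF.isFinLocFree_pushforward (f := π)
      Groth.Agent.Dcoh.LocalFree.isFinLocFree_structureModule
  choose W n hW fr using exists_fr hfree
  have fr' : ∀ y, Fr π (W y) (n y) := fun y => (fr y).some
  refine isQuasiAffine_of_norm π fun b => ?_
  -- the local norms glue
  obtain ⟨s, hs⟩ : ∃ s : Γ(Y, ⊤), ∀ y, ores (le_top : W y ≤ ⊤) s =
      nm π (W y) (ores (pre π (le_top : W y ≤ ⊤)) b) := by
    refine Groth.Agent.Smoothlim.LineSec.glueO W (fun _ => le_top)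
      (fun y _ => Opens.mem_iSup.2 ⟨y, hW y⟩) (fun y => nm π (W y) (ores (pre π (le_top : W y ≤ ⊤)) b))
      fun y z => ?_
    change ores inf_le_left _ = ores inf_le_right _
    rw [← (fr' y).nm_ores le_rfl inf_le_left, ← (fr' z).nm_ores le_rfl inf_le_right, ores_ores, ores_ores]
  refine ⟨s, fun y => ?_⟩
  constructor
  · intro hy x hx
    let V : Y.Opens := W y ⊓ Y.basicOpen s
    have hyV : y ∈ V := ⟨hW y, hy⟩
    have h1 : IsUnit (ores (le_top : V ≤ ⊤) s) := isUnit_res_basicOpen s _ inf_le_right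
    have h2 : ores (le_top : V ≤ ⊤) s = nm π V (ores (pre π (le_top : V ≤ ⊤)) b) := by
      rw [← ores_ores (le_top : W y ≤ ⊤) (inf_le_left : V ≤ W y), hs, ← (fr' y).nm_ores le_rfl inf_le_left,
        ores_ores]
    rw [h2, (fr' y).isUnit_nm_iff inf_le_left] at h1
    have h3 := le_basicOpen_of_isUnit b (pre π (le_top : V ≤ ⊤)) h1
    exact h3 (show π x ∈ V by rw [hx]; exact hyV)
  · intro hy
    let V : Y.Opens := W y ⊓ Groth.Agent.Divis.NormSheaf.core π (X.basicOpen b)
    have hyV : y ∈ V := ⟨hW y, (Groth.Agent.Divis.NormSheaf.mem_core _ _ _).2 hy⟩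
    have hle : π ⁻¹ᵁ V ≤ X.basicOpen b := fun x hx =>
      Groth.Agent.Divis.NormSheaf.preimage_core_le π _ hx.2
    have h1 : IsUnit (ores (pre π (le_top : V ≤ ⊤)) b) := isUnit_res_basicOpen b _ hle
    rw [← (fr' y).isUnit_nm_iff inf_le_left] at h1
    have h2 : ores (le_top : V ≤ ⊤) s = nm π V (ores (pre π (le_top : V ≤ ⊤)) b) := by
      rw [← ores_ores (le_top : W y ≤ ⊤) (inf_le_left : V ≤ W y), hs, ← (fr' y).nm_ores le_rfl inf_le_left,
        ores_ores]
    rw [← h2] at h1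
    exact le_basicOpen_of_isUnit s (le_top : V ≤ ⊤) h1 hyV

end K470.QAffDesc
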