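import Groth.Agent.Sga67.KoszulStrict
import Groth.Agent.Flat2H.KoszulLen
import Groth.Agent.Flat2H.KoszulNoeth
import Groth.Agent.Flat2H.KoszulBC
import Mathlib.RingTheory.Regular.RegularSequence
import Mathlib.Algebra.MvPolynomial.Equiv
import Mathlib.RingTheory.Polynomial.Quotient
import Mathlib.RingTheory.Flat.TorsionFree

/-!
# Generic generators of a Koszul-regular ideal

* `eq_zero_of_forall_mul_eq_zero`: a nonempty Koszul-regular sequence has zero annihilator.
* `exists_generic`: if `f` is a Koszul-regular sequence in `A`, there is a finite set of variables `σ` and a weakly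
  regular sequence in `A[σ]` generating the ideal `(f) A[σ]`.
-/

set_option autoImplicit false
universe u

open RingTheory.Sequence Groth.Agent.Sga67.KoszulTot
open scoped Pointwise

namespace K470.GenericReg

section Top

variable {A : Type u} [CommRing A]

/-- the element of top degree -/
def top : ∀ {n : ℕ}, A → (Idx n → A)
  | 0, m => fun _ => m
  | _ + 1, m => pr (top m) 0

/-- the component of top degree -/
def topc : ∀ {n : ℕ}, (Idx n → A) → A
  | 0, t => t ()
  | _ + 1, t => topc (hd t)

lemma topc_add : ∀ {n : ℕ} (s t : Idx n → A), topc (s + t) = topc s + topc t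
  | 0, _, _ => rfl
  | _ + 1, s, t => by
    change topc (hd (s + t)) = _
    rw [hd_add, topc_add]
    rfl

lemma topc_zero : ∀ (n : ℕ), topc (0 : Idx n → A) = 0
  | 0 => rfl
  | n + 1 => by
    exact topc_zero n

lemma topc_neg : ∀ {n : ℕ} (s : Idx n → A), topc (-s) = -topc s
  | 0, _ => rfl
  | _ + 1, s => by
    change topc (hd (-s)) = _
    rw [hd_neg, topc_neg]
    rfl

lemma topc_top : ∀ (n : ℕ) (a : A), topc (top a : Idx n → A) = a
  | 0, _ => rfl
  | n + 1, a => by
    exact topc_top n a

lemma topc_D : ∀ {n : ℕ} (f : Fin n → A) (t : Idx n → A), topc (D f t) = 0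
  | 0, _, _ => rfl
  | _ + 1, f, t => by
    change topc (hd (D f t)) = _
    rw [hd_D, topc_neg, topc_D, neg_zero]

lemma smul_top : ∀ (n : ℕ) (r a : A), r • (top a : Idx n → A) = top (r * a)
  | 0, _, _ => rfl
  | n + 1, r, a => by
    change r • pr (top a) 0 = pr (top (r * a)) 0
    apply pr_ext
    · rw [hd_smul, hd_pr, hd_pr, smul_top n]
    · rw [tl_smul, tl_pr, tl_pr, smul_zero]

lemma top_zero : ∀ (n : ℕ), (top (0 : A) : Idx n → A) = 0
  | 0 => rfl
  | n + 1 => by
    change pr (top 0) 0 = 0
    rw [top_zero n, pr_eq_zero_iff]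
    exact ⟨rfl, rfl⟩

lemma D_top : ∀ {n : ℕ} (f : Fin n → A) (a : A), (∀ i, f i * a = 0) → D f (top a) = 0
  | 0, _, _, _ => rfl
  | _ + 1, f, a, h => by
    change D f (pr (top a) 0) = 0
    apply pr_ext
    · rw [hd_D, hd_pr, D_top (f ∘ Fin.succ) a fun i => h i.succ, neg_zero, hd_zero]
    · rw [tl_D, hd_pr, tl_pr, map_zero, add_zero, smul_top, h 0, top_zero, tl_zero]

/-- A nonempty Koszul-regular sequence has zero annihilator. -/
theorem eq_zero_of_forall_mul_eq_zero {l : List A} (hl : LCI.IsKoszulRegularSeq A l) (hne : l ≠ []) (a : A)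
    (ha : ∀ x ∈ l, x * a = 0) : a = 0 := by
  obtain ⟨w, b, hw⟩ := Groth.Agent.Sga67.KoszulStrict.exists_of_isKoszulRegularSeq l hl (top a)
    (D_top _ _ fun i => ha _ (List.get_mem l i))
  have h1 := congrArg topc hw
  rw [topc_top, topc_add, topc_D, zero_add] at h1
  rw [h1]
  cases l with
  | nil => exact absurd rfl hne
  | cons x l =>
    change topc (hd (inj0 b)) = 0
    rw [hd_inj0, topc_zero]

end Top

/-- Weakly regular sequences lifted along the quotient by a nonzerodivisor. -/
theorem isWeaklyRegular_cons_of_surjective {R S : Type*} [CommRing R] [CommRing S] (π : R →+* S)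
    (hπ : Function.Surjective π) (a : R) (ha : IsSMulRegular R a) (hk : RingHom.ker π = Ideal.span {a}) (l : List R)
    (h : IsWeaklyRegular S (l.map π)) : IsWeaklyRegular R (a :: l) := by
  rw [isWeaklyRegular_cons_iff]
  refine ⟨ha, ?_⟩
  have h1 : (a • ⊤ : Submodule R R) = RingHom.ker π := by
    rw [hk]
    ext x
    rw [Submodule.mem_smul_pointwise_iff_exists, Ideal.mem_span_singleton']
    exact ⟨fun ⟨y, _, hy⟩ => ⟨y, by rw [← hy, smul_eq_mul, mul_comm]⟩,
      fun ⟨y, hy⟩ => ⟨y, trivial, by rw [← hy, smul_eq_mul, mul_comm]⟩⟩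
  let e1 : QuotSMulTop a R ≃ₗ[R] R ⧸ RingHom.ker π := Submodule.quotEquivOfEq _ _ h1
  let e2 : (R ⧸ RingHom.ker π) ≃+* S := RingHom.quotientKerEquivOfSurjective hπ
  refine (AddEquiv.isWeaklyRegular_congr (e := e1.toAddEquiv.trans e2.toAddEquiv) (as := l) (bs := l.map π) ?_).2 h
  rw [List.forall₂_map_right_iff, List.forall₂_same]
  intro r _ x
  obtain ⟨y, rfl⟩ := Submodule.Quotient.mk_surjective _ x
  change e2 (Ideal.Quotient.mk (RingHom.ker π) (r * y)) = π r • e2 (Ideal.Quotient.mk (RingHom.ker π) y)
  rw [map_mul, map_mul]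
  rfl

/-- Weakly regular sequences and ring isomorphisms. -/
theorem isWeaklyRegular_map_equiv {R S : Type*} [CommRing R] [CommRing S] (e : R ≃+* S) (l : List R)
    (h : IsWeaklyRegular R l) : IsWeaklyRegular S (l.map e) := by
  refine (AddEquiv.isWeaklyRegular_congr (e := e.toAddEquiv) (as := l) (bs := l.map e) ?_).1 h
  rw [List.forall₂_map_right_iff, List.forall₂_same]
  intro r _ x
  exact map_mul e r x

section Poly

open Polynomial

variable {A : Type u} [CommRing A]

/-- the polynomial with the given list of coefficients -/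
noncomputable def ofL : List A → A[X]
  | [] => 0
  | a :: l => C a + X * ofL l

lemma coeff_ofL : ∀ (l : List A) (i : ℕ) (h : i < l.length), (ofL l).coeff i = l[i]
  | a :: l, 0, _ => by simp [ofL]
  | a :: l, i + 1, h => by
    have := coeff_ofL l i (by simpa using h)
    simp [ofL, coeff_X_mul, this, coeff_C]

lemma ofL_mem : ∀ (l : List A), ofL l ∈ Ideal.ofList (l.map C)
  | [] => by simp [ofL]
  | a :: l => by
    rw [List.map_cons, Ideal.ofList_cons]
    exact Ideal.add_mem _ (Ideal.mem_sup_left (Ideal.mem_span_singleton_self _))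
      (Ideal.mul_mem_left _ _ (Ideal.mem_sup_right (ofL_mem l)))

/-- the ideals agree -/
lemma ofList_append_ofL (a : A) (l : List A) :
    Ideal.ofList (l.map C ++ [ofL (a :: l)]) = Ideal.ofList ((a :: l).map C) := by
  rw [Ideal.ofList_append, Ideal.ofList_singleton, List.map_cons, Ideal.ofList_cons]
  apply le_antisymm
  · refine sup_le le_sup_right ?_
    rw [Ideal.span_singleton_le_iff_mem, ← Ideal.ofList_cons, ← List.map_cons]
    exact ofL_mem _
  · refine sup_le ?_ le_sup_left
    rw [Ideal.span_singleton_le_iff_mem]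
    have h1 : C a = ofL (a :: l) - X * ofL l := by
      rw [ofL, add_sub_cancel_right]
    rw [h1]
    exact Ideal.sub_mem _ (Ideal.mem_sup_right (Ideal.mem_span_singleton_self _))
      (Ideal.mul_mem_left _ _ (Ideal.mem_sup_left (ofL_mem l)))

/-- McCoy -/
lemma isSMulRegular_ofL {l : List A} (h : ∀ a : A, (∀ x ∈ l, x * a = 0) → a = 0) : IsSMulRegular A[X] (ofL l) := by
  have h1 : ofL l ∈ nonZeroDivisors A[X] := by
    rw [Polynomial.mem_nonZeroDivisors_iff]
    intro a ha
    refine h a fun x hx => ?_
    obtain ⟨i, hi, rfl⟩ := List.getElem_of_mem hx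
    have h2 := congrArg (fun p => p.coeff i) ha
    simpa [coeff_ofL l i hi, mul_comm] using h2
  exact (isRegular_iff_mem_nonZeroDivisors.2 h1).1

end Poly

open MvPolynomial in
/-- **Generic generators.** -/
theorem exists_generic (r : ℕ) : ∀ (A : Type u) [CommRing A] (f : List A), f.length = r →
    LCI.IsKoszulRegularSeq A f → ∃ (σ : Type) (_ : Finite σ) (g : List (MvPolynomial σ A)),
      IsWeaklyRegular (MvPolynomial σ A) g ∧ Ideal.ofList g = (Ideal.ofList f).map MvPolynomial.C := by
  induction r with
  | zero =>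
    intro A _ f hf _
    rw [List.length_eq_zero_iff] at hf
    subst hf
    exact ⟨PEmpty, inferInstance, [], .nil _ _, by simp⟩
  | succ r ih =>
    intro A _ f hf hreg
    obtain ⟨a, f, rfl⟩ : ∃ a f', f = a :: f' := List.exists_cons_of_length_eq_add_one hf
    let p : Polynomial A := ofL (a :: f)
    have hp : IsSMulRegular (Polynomial A) p :=
      isSMulRegular_ofL fun b hb => eq_zero_of_forall_mul_eq_zero hreg (by simp) b hb
    have hreg' : LCI.IsKoszulRegularSeq (Polynomial A) ((a :: f).map Polynomial.C) := by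
      refine Groth.Agent.Flat2H.KoszulBC.IsKoszulRegularSeq_map_of_flat hreg Polynomial.C ?_
      change (algebraMap A (Polynomial A)).Flat
      rw [RingHom.flat_algebraMap_iff]
      infer_instance
    have h1 : LCI.IsKoszulRegularSeq (Polynomial A) (f.map Polynomial.C ++ [p]) :=
      Groth.Agent.Flat2H.KoszulLen.isKoszulRegularSeq_of_ofList_eq hreg' (ofList_append_ofL a f) (by simp)
    rw [Groth.Agent.Flat2H.KoszulBC.isKoszulRegularSeq_append_iff
      (Groth.Agent.Flat2H.KoszulNoeth.isKoszulRegularSeq_singleton_iff.2 hp)] at h1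
    obtain ⟨σ, hσ, g, hg, hgI⟩ := ih _ _ (by simpa using hf) h1
    let J : Ideal (Polynomial A) := Ideal.ofList [p]
    let π : MvPolynomial σ (Polynomial A) →+* MvPolynomial σ (Polynomial A ⧸ J) := MvPolynomial.map (Ideal.Quotient.mk J)
    have hπ : Function.Surjective π := MvPolynomial.map_surjective _ Ideal.Quotient.mk_surjective
    obtain ⟨g', hg'⟩ : ∃ g' : List (MvPolynomial σ (Polynomial A)), g'.map π = g :=
      List.map_surjective_iff.2 hπ g
    have hker : RingHom.ker π = Ideal.span {(MvPolynomial.C p : MvPolynomial σ (Polynomial A))} := by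
      have h2 : RingHom.ker π = J.map (MvPolynomial.C : _ →+* MvPolynomial σ (Polynomial A)) := by
        have h3 := MvPolynomial.ker_map (σ := σ) (Ideal.Quotient.mk J)
        rw [Ideal.mk_ker] at h3
        exact h3
      rw [h2, Ideal.map_ofList]
      simp
    have hCp : IsSMulRegular (MvPolynomial σ (Polynomial A)) (MvPolynomial.C p : MvPolynomial σ (Polynomial A)) := by
      have h4 : IsSMulRegular (MvPolynomial σ (Polynomial A)) p :=
        Module.Flat.isSMulRegular_of_isRegular (isRegular_iff_mem_nonZeroDivisors.2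
          (mem_nonZeroDivisors_iff_right.2 fun x hx => hp.right_eq_zero_of_smul (by rwa [smul_eq_mul, mul_comm])))
      intro x y hxy
      apply h4
      simpa [MvPolynomial.smul_eq_C_mul] using hxy
    have hw := isWeaklyRegular_cons_of_surjective (R := MvPolynomial σ (Polynomial A))
      (S := MvPolynomial σ (Polynomial A ⧸ J)) π hπ (MvPolynomial.C p) hCp hker g' (by rw [hg']; exact hg)
    let e := (MvPolynomial.optionEquivRight A σ).symm
    refine ⟨Option σ, inferInstance, ((MvPolynomial.C p) :: g').map e.toRingEquiv, isWeaklyRegular_map_equiv _ _ hw, ?_⟩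
    let K : Ideal (Polynomial A) := Ideal.ofList ((a :: f).map Polynomial.C)
    have hK : K.map (Ideal.Quotient.mk J) = Ideal.ofList ((f.map Polynomial.C).map (Ideal.Quotient.mk J)) := by
      have h5 : K = Ideal.ofList (f.map Polynomial.C ++ [p]) := (ofList_append_ofL a f).symm
      have h6 : Ideal.Quotient.mk J p = 0 :=
        Ideal.Quotient.eq_zero_iff_mem.2 (Ideal.subset_span (by simp))
      rw [h5, Ideal.map_ofList, List.map_append, Ideal.ofList_append]
      simp [h6]
    have hideal : Ideal.ofList ((MvPolynomial.C p) :: g') =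
        K.map (MvPolynomial.C : _ →+* MvPolynomial σ (Polynomial A)) := by
      have h7 : (Ideal.ofList ((MvPolynomial.C p) :: g')).map π =
          (K.map (MvPolynomial.C : _ →+* MvPolynomial σ (Polynomial A))).map π := by
        have h8 : π.comp MvPolynomial.C = MvPolynomial.C.comp (Ideal.Quotient.mk J) := by
          ext x <;> simp [π]
        rw [Ideal.map_map, h8, ← Ideal.map_map, hK, ← hgI, Ideal.map_ofList, List.map_cons, hg', Ideal.ofList_cons]
        have h9 : π (MvPolynomial.C p) = 0 := by
          rw [← RingHom.mem_ker, hker]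
          exact Ideal.mem_span_singleton_self _
        rw [h9]
        simp
        rfl
      have h10 := congrArg (Ideal.comap π) h7
      rw [Ideal.comap_map_of_surjective π hπ, Ideal.comap_map_of_surjective π hπ, ← RingHom.ker_eq_comap_bot, hker]
        at h10
      rw [sup_eq_left.2, sup_eq_left.2] at h10
      · exact h10
      · rw [Ideal.span_singleton_le_iff_mem]
        exact Ideal.mem_map_of_mem _ (ofL_mem _)
      · rw [Ideal.ofList_cons]
        exact le_sup_left
    have h12 : Ideal.ofList (((MvPolynomial.C p) :: g').map e.toRingEquiv) =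
        (Ideal.ofList ((MvPolynomial.C p) :: g')).map (e.toRingEquiv : _ →+* MvPolynomial (Option σ) A) :=
      (Ideal.map_ofList _ _).symm
    rw [h12, hideal, Ideal.map_map]
    have h11 : K = (Ideal.ofList (a :: f)).map Polynomial.C := (Ideal.map_ofList _ _).symm
    rw [h11, Ideal.map_map]
    congr 1
    refine RingHom.ext fun x => ?_
    have h13 := e.commutes x
    rwa [MvPolynomial.algebraMap_apply, MvPolynomial.algebraMap_eq, Polynomial.algebraMap_eq] at h13

end K470.GenericReg
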