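import Groth.Agent.SDiv.K470.RelCartFib
import Groth.Agent.SDiv.K470.RegImmAt
import Groth.Agent.SDiv.K473.RegImmCalc
import Groth.Agent.SDiv.K473.MeroReg
import Groth.Agent.SDiv.K470.GenericReg
import Groth.Agent.Flat2G.SliceSch
import Groth.Agent.EGA41.K104.QuasiReg

/-!
# Relative regular immersions, fibre criterion

`φ : X ⟶ S` flat and locally of finite presentation, `𝓘` an ideal sheaf on `X` whose closed subscheme is flat and l.f.p. over
`S`. If the fibres of the closed subscheme are regular immersions of some kind, then `𝓘.subschemeι` is a regular immersion (of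
the strongest kind).
-/

set_option autoImplicit false
universe u

open CategoryTheory CategoryTheory.Limits AlgebraicGeometry TopologicalSpace IsLocalRing
open RingTheory.Sequence

namespace K470.RelRegFib

open Groth.Agent.Divis.CartierBasic Groth.Agent.Divis.CartierStalk Groth.Agent.Ega4dB.FiberStalk
open Groth.Agent.Divis.RegImm Groth.Agent.Divis.RegSpread Groth.Agent.Flat2G.SliceSeq

variable {X S : Scheme.{u}}

/-- generators near a point which are a regular sequence on the fibre -/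
theorem regAt_of_fibre (φ : X ⟶ S) [LocallyOfFinitePresentation φ] (𝓘 : X.IdealSheafData)
    [LocallyOfFinitePresentation 𝓘.subschemeι] (x : X) (hflat : (φ.stalkMap x).hom.Flat)
    (hs : List (X.presheaf.stalk x)) (hm : ∀ h ∈ hs, h ∈ maximalIdeal (X.presheaf.stalk x))
    (hreg : RegMod (fibIdeal φ x) hs) (hI : stalkIdeal 𝓘 x = Ideal.ofList hs) : RegAt 𝓘 x := by
  classical
  obtain ⟨V, hV, U, hU, hx, e, hs', rfl, hsl⟩ := Groth.Agent.Flat2G.SliceSch.exists_sliced φ x hflat hs hm hreg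
  letI := (φ.appLE V U e).hom.toAlgebra
  have hw : IsWeaklyRegular Γ(X, U) hs' := (isWeaklyRegular_iff_regMod_bot hs').2 hsl.regMod
  let := X.presheaf.algebra_section_stalk ⟨x, hx⟩
  have := hU.isLocalization_stalk ⟨x, hx⟩
  obtain ⟨g, hg, Hg⟩ := exists_map_eq_of_atPrime (hU.primeIdealOf ⟨x, hx⟩).asIdeal
    (X.presheaf.stalk x) (𝓘.ideal ⟨U, hU⟩) (Ideal.ofList hs') (K470.RelCartFib.ideal_fg 𝓘 ⟨U, hU⟩)
    ⟨hs'.toFinset, by rw [Ideal.ofList]; congr 1; ext; simp⟩
    (by rw [Ideal.map_ofList]; exact (stalkIdeal_eq 𝓘 ⟨U, hU⟩ hx).symm.trans hI)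
  have hu : IsUnit ((X.presheaf.germ U x hx).hom g) :=
    IsLocalization.map_units (X.presheaf.stalk x)
      (⟨g, hg⟩ : (hU.primeIdealOf ⟨x, hx⟩).asIdeal.primeCompl)
  have hxg : x ∈ X.basicOpen g := (X.mem_basicOpen _ x hx).mpr hu
  have hres : IsUnit ((X.presheaf.map (homOfLE (X.basicOpen_le g)).op).hom g) :=
    RingedSpace.isUnit_res_basicOpen _ g
  refine ⟨⟨X.basicOpen g, hU.basicOpen g⟩, hxg,
    hs'.map (X.presheaf.map (homOfLE (X.basicOpen_le g)).op).hom, ?_, ?_⟩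
  · exact isWeaklyRegular_map_of_flat _ (flat_res hU (hU.basicOpen g) (X.basicOpen_le g)) hw
  · rw [← 𝓘.map_ideal (U := ⟨X.basicOpen g, hU.basicOpen g⟩) (V := ⟨U, hU⟩) (X.basicOpen_le g)]
    refine (Hg _ (X.presheaf.map (homOfLE (X.basicOpen_le g)).op).hom hres).trans ?_
    rw [Ideal.map_ofList]

lemma ofList_eq_span_range {A : Type*} [CommRing A] {c : ℕ} (f : Fin c → A) :
    Ideal.ofList (List.ofFn f) = Ideal.span (Set.range f) := by
  rw [Ideal.ofList]
  congr 1
  ext x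
  simp [List.mem_ofFn]

/-- sequences of any kind in the maximal ideal of a Noetherian local ring are weakly regular -/
theorem isWeaklyRegular_of_seq (k : RegImm.Kind) {A : Type u} [CommRing A] [IsNoetherianRing A] [IsLocalRing A]
    {rs : List A} (hm : ∀ r ∈ rs, r ∈ maximalIdeal A) (h : k.Seq A rs) : IsWeaklyRegular A rs := by
  have h1 : RegImm.Kind.quasi.Seq A rs := K473.RegImmCalc.quasi_of_seq k h
  have h2 := K104.QuasiReg.isWeaklyRegular_of_isQuasiRegular rs.length rs.get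
    (fun i => by
      rw [Ring.jacobson_eq_sInf_isMaximal, Submodule.mem_sInf]
      rintro M hM
      rw [IsLocalRing.eq_maximalIdeal hM]
      exact hm _ (List.get_mem rs i)) h1
  rwa [List.ofFn_get] at h2

/-- The ideal in the local ring of the fibre, for an immersion of the closed subscheme of some kind. -/
theorem exists_fibre_seq (k : RegImm.Kind) (φ : X ⟶ S) [LocallyOfFiniteType φ] (𝓘 : X.IdealSheafData) (x : X)
    (z' : ↥(pullback 𝓘.subschemeι (φ.fiberι (φ x))))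
    (hz' : pullback.snd 𝓘.subschemeι (φ.fiberι (φ x)) z' = φ.asFiber x)
    (h : RegImm.IsRegularImmersionAt k (pullback.snd 𝓘.subschemeι (φ.fiberι (φ x))) z') :
    ∃ rs : List (X.presheaf.stalk x ⧸ fibIdeal φ x), IsWeaklyRegular (X.presheaf.stalk x ⧸ fibIdeal φ x) rs ∧
      (stalkIdeal 𝓘 x).map (Ideal.Quotient.mk (fibIdeal φ x)) = Ideal.ofList rs := by
  let i' := pullback.snd 𝓘.subschemeι (φ.fiberι (φ x))
  obtain ⟨U', hU', -, rs, hrs, hk⟩ := h
  have hker : i'.ker = 𝓘.comap (φ.fiberι (φ x)) := by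
    have h1 := Scheme.IdealSheafData.ker_fst_of_isClosedImmersion 𝓘.subschemeι (φ.fiberι (φ x))
    rw [𝓘.ker_subschemeι] at h1
    rw [← h1, ← pullbackSymmetry_inv_comp_snd 𝓘.subschemeι (φ.fiberι (φ x)), Scheme.Hom.ker_comp_of_isIso]
  have hxU' : φ.asFiber x ∈ U'.1 := hz' ▸ hU'
  have hst : stalkIdeal (𝓘.comap (φ.fiberι (φ x))) (φ.asFiber x) =
      Ideal.ofList (rs.map ((φ.fiber (φ x)).presheaf.germ U'.1 (φ.asFiber x) hxU').hom) := by
    rw [stalkIdeal_eq _ U' hxU', ← hker, Scheme.Hom.ker_apply, hk, Ideal.map_ofList]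
  have hft : LocallyOfFiniteType (φ.fiberToSpecResidueField (φ x)) :=
    inferInstanceAs (LocallyOfFiniteType (pullback.snd _ _))
  have hNoeth : IsLocallyNoetherian (φ.fiber (φ x)) :=
    LocallyOfFiniteType.isLocallyNoetherian (φ.fiberToSpecResidueField (φ x))
  let F := (φ.fiber (φ x)).presheaf.stalk (φ.asFiber x)
  let rs' : List F := rs.map ((φ.fiber (φ x)).presheaf.germ U'.1 (φ.asFiber x) hxU').hom
  have hm : ∀ r ∈ rs', r ∈ maximalIdeal F := by
    intro r hr
    obtain ⟨a, ha, rfl⟩ := List.mem_map.1 hr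
    rw [mem_maximalIdeal, mem_nonunits_iff]
    intro hu
    have h1 : φ.asFiber x ∈ (φ.fiber (φ x)).basicOpen a := ((φ.fiber (φ x)).mem_basicOpen a _ hxU').2 hu
    rw [← hz'] at h1
    have h2 : z' ∈ i' ⁻¹ᵁ (φ.fiber (φ x)).basicOpen a := h1
    rw [Scheme.preimage_basicOpen] at h2
    have h3 : (i'.app U'.1).hom a = 0 := by
      rw [← RingHom.mem_ker, hk]
      exact Ideal.subset_span ha
    have h4 : i'.app U'.1 a = 0 := h3
    rw [h4, Scheme.basicOpen_zero] at h2
    exact h2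
  have hflat : ((φ.fiber (φ x)).presheaf.germ U'.1 (φ.asFiber x) hxU').hom.Flat := K473.MeroReg.flat_germ U'.2 hxU'
  have hrs' : IsWeaklyRegular F rs' := by
    refine isWeaklyRegular_of_seq k hm (K473.SeqFlat.seq_map_of_flat k _ hflat hrs ?_)
    intro h1
    have h2 : Ideal.ofList rs' ≤ maximalIdeal F := Ideal.span_le.2 fun r hr => hm r hr
    exact (maximalIdeal.isMaximal F).ne_top (top_le_iff.1 (h1 ▸ h2))
  change stalkIdeal _ _ = Ideal.ofList rs' at hst
  rw [stalkIdeal_comap] at hst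
  have h1 : (stalkIdeal 𝓘 x).map (toFiberStalk φ x).hom =
      (stalkIdeal 𝓘 (φ.fiberι (φ x) (φ.asFiber x))).map
        ((φ.fiberι (φ x)).stalkMap (φ.asFiber x)).hom := by
    rw [← K470.RelCartFib.stalkIdeal_map_specializes 𝓘 (φ.fiberι_asFiber x), Ideal.map_map]
    rfl
  rw [← h1] at hst
  let e := fiberStalkEquiv φ x
  have h3 : (((fiberStalkEquiv φ x).symm : _ →+* _).comp (toFiberStalk φ x).hom) =
      Ideal.Quotient.mk (fibIdeal φ x) := by
    ext a
    rw [RingHom.comp_apply]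
    change (fiberStalkEquiv φ x).symm ((toFiberStalk φ x).hom a) = _
    rw [← fiberStalkEquiv_mk, RingEquiv.symm_apply_apply]
  refine ⟨rs'.map e.symm, K470.GenericReg.isWeaklyRegular_map_equiv e.symm _ hrs', ?_⟩
  rw [← h3, ← Ideal.map_map, hst, Ideal.map_ofList]
  rfl

/-- lifting lists of elements of an ideal -/
theorem exists_lift {A : Type*} [CommRing A] (J K : Ideal A) (rs : List (A ⧸ K))
    (h : ∀ r ∈ rs, r ∈ J.map (Ideal.Quotient.mk K)) :
    ∃ hs : List A, (∀ a ∈ hs, a ∈ J) ∧ hs.map (Ideal.Quotient.mk K) = rs := by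
  induction rs with
  | nil => exact ⟨[], by simp, rfl⟩
  | cons r rs ih =>
    obtain ⟨hs, h1, h2⟩ := ih fun r' hr' => h r' (List.mem_cons_of_mem _ hr')
    obtain ⟨a, ha, rfl⟩ := (Ideal.mem_map_iff_of_surjective _ Ideal.Quotient.mk_surjective).1 (h r List.mem_cons_self)
    exact ⟨a :: hs, by simpa using ⟨ha, h1⟩, by rw [List.map_cons, h2]⟩

/-- **Fibre criterion.** -/
theorem isRegularImmersion (k : RegImm.Kind) (φ : X ⟶ S) [Flat φ] [LocallyOfFinitePresentation φ]
    (𝓘 : X.IdealSheafData) [Flat (𝓘.subschemeι ≫ φ)] [LocallyOfFinitePresentation (𝓘.subschemeι ≫ φ)]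
    (hfib : ∀ s : S, RegImm.IsRegularImmersion k (pullback.snd 𝓘.subschemeι (φ.fiberι s))) :
    RegImm.IsRegularImmersion RegImm.Kind.regular 𝓘.subschemeι := by
  refine ⟨inferInstance, fun d => ?_⟩
  have hlfp : LocallyOfFinitePresentation 𝓘.subschemeι :=
    Groth.Agent.Flat2E.Thick.locallyOfFinitePresentation_of_comp 𝓘.subschemeι φ
  let x := 𝓘.subschemeι d
  obtain ⟨z', hz1, hz2⟩ := Scheme.Pullback.exists_preimage_pullback (f := 𝓘.subschemeι) (g := φ.fiberι (φ x)) d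
    (φ.asFiber x) (φ.fiberι_asFiber x).symm
  obtain ⟨rs, hrs, hI⟩ := exists_fibre_seq k φ 𝓘 x z' hz2 ((hfib (φ x)).2 z')
  obtain ⟨hs, hhs, rfl⟩ := exists_lift (stalkIdeal 𝓘 x) (fibIdeal φ x) rs
    (fun r hr => by rw [hI]; exact Ideal.subset_span hr)
  obtain ⟨V, hxV⟩ := exists_affine x
  have hY : ((𝓘.subschemeι ≫ φ).stalkMap d).hom.Flat := Flat.stalkMap _ d
  have hcomp : ((𝓘.subschemeι ≫ φ).stalkMap d).hom =
      (𝓘.subschemeι.stalkMap d).hom.comp (φ.stalkMap (𝓘.subschemeι d)).hom := by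
    rw [Scheme.Hom.stalkMap_comp]; rfl
  have hker : RingHom.ker (𝓘.subschemeι.stalkMap d).hom = stalkIdeal 𝓘 (𝓘.subschemeι d) :=
    ker_stalkMap_subschemeι 𝓘 d
  have hflat : ((Ideal.Quotient.mk (stalkIdeal 𝓘 (𝓘.subschemeι d))).comp
      (φ.stalkMap (𝓘.subschemeι d)).hom).Flat := by
    rw [hcomp] at hY
    let e := (Ideal.quotEquivOfEq hker.symm).trans
      (RingHom.quotientKerEquivOfSurjective (𝓘.subschemeι.stalkMap_surjective d))
    have h2 : ((Ideal.Quotient.mk (stalkIdeal 𝓘 (𝓘.subschemeι d))).comp (φ.stalkMap (𝓘.subschemeι d)).hom) =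
        (e.symm : _ →+* _).comp ((𝓘.subschemeι.stalkMap d).hom.comp (φ.stalkMap (𝓘.subschemeι d)).hom) := by
      ext a
      rw [RingHom.comp_apply, RingHom.comp_apply]
      apply e.injective
      erw [RingEquiv.apply_symm_apply]
      rfl
    rw [h2]
    exact RingHom.Flat.comp hY (RingHom.Flat.of_bijective e.symm.bijective)
  let algA : Algebra (S.presheaf.stalk (φ (𝓘.subschemeι d))) (X.presheaf.stalk (𝓘.subschemeι d)) :=
    (φ.stalkMap (𝓘.subschemeι d)).hom.toAlgebra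
  have hlocA' : IsLocalHom (algebraMap (S.presheaf.stalk (φ (𝓘.subschemeι d)))
      (X.presheaf.stalk (𝓘.subschemeι d))) :=
    inferInstanceAs (IsLocalHom (φ.stalkMap (𝓘.subschemeι d)).hom)
  have hfl : Module.Flat (S.presheaf.stalk (φ (𝓘.subschemeι d)))
      (X.presheaf.stalk (𝓘.subschemeι d) ⧸ stalkIdeal 𝓘 (𝓘.subschemeι d)) := hflat
  have hJ : stalkIdeal 𝓘 (𝓘.subschemeι d) = Ideal.ofList hs := by
    refine Groth.Agent.Ega4dB.FlatNak.eq_ofList_of_map_eq (R := S.presheaf.stalk (φ (𝓘.subschemeι d)))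
      (stalkIdeal 𝓘 (𝓘.subschemeι d)) ?_ hs hhs ?_
    · rw [stalkIdeal_eq _ V hxV]
      exact (K470.RelCartFib.ideal_fg 𝓘 V).map _
    · intro a ha
      have h4 := Ideal.mem_map_of_mem (Ideal.Quotient.mk (fibIdeal φ (𝓘.subschemeι d))) ha
      rw [hI, ← Ideal.map_ofList, Ideal.mem_map_iff_of_surjective _ Ideal.Quotient.mk_surjective] at h4
      obtain ⟨b, hb, hba⟩ := h4
      rw [Ideal.Quotient.eq] at hba
      have h5 : a = b - (b - a) := by ring
      rw [h5]
      exact Submodule.sub_mem_sup hb hba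
  have hm : ∀ h ∈ hs, h ∈ maximalIdeal (X.presheaf.stalk x) := by
    intro h hh
    have h1 : x ∈ (𝓘.support : Set X) := by
      rw [← 𝓘.range_subschemeι]
      exact ⟨d, rfl⟩
    exact (mem_support_iff_stalkIdeal_le 𝓘 x).1 h1 (hhs h hh)
  have hreg : RegAt 𝓘 x := regAt_of_fibre φ 𝓘 x (Flat.stalkMap φ x) hs hm
    ((isWeaklyRegular_map_mk_iff hs (fibIdeal φ x)).1 hrs) hJ
  obtain ⟨W, hxW, ws, hws, hW⟩ := hreg
  have hk : RingHom.ker (𝓘.subschemeι.app W.1).hom = Ideal.ofList ws := by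
    rw [← Scheme.Hom.ker_apply, 𝓘.ker_subschemeι]
    exact hW
  refine ⟨W, hxW, inferInstance, ws, (isRegular_iff_ne_top ws).2 ⟨hws, ?_⟩, hk⟩
  rw [← hk]
  exact K473.RegImmCalc.ker_app_ne_top hxW

end K470.RelRegFib
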