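import Groth.Agent.SDiv.K470.SliceDesc
import Mathlib.RingTheory.RingHom.StandardSmooth
import Mathlib.AlgebraicGeometry.Morphisms.Smooth
import Mathlib.AlgebraicGeometry.Morphisms.Immersion

/-!
# A regular immersion into a smooth scheme which is an immersion over the base is regular over the base
-/

set_option autoImplicit false
universe u

open K559.Gen K559.GenDesc K559.Basic
open Groth.Agent.CurvesC.NodeEt
open CategoryTheory CategoryTheory.Limits AlgebraicGeometry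

namespace K470.SliceSmooth

variable {S : ∀ (R : Type u) [CommRing R], List R → Prop}

/-- Étale coordinates. -/
theorem of_coord (hS : Good S) (hq : SeqQuot.Quot S) {A B : Type u} [CommRing A] [CommRing B]
    [Algebra A B] {d : ℕ} {x : Fin d → B} (hx : IsEtaleCoord A x) (J : Ideal B)
    (hsurj : Function.Surjective ((Ideal.Quotient.mk J).comp (algebraMap A B)))
    (hJ : SIdeal S J) : SIdeal S (J.comap (algebraMap A B)) := by
  have hsm : Algebra.Smooth A B := hx.smooth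
  choose a ha using fun k => hsurj (Ideal.Quotient.mk J (x k))
  let t : Fin d → B := fun k => x k - algebraMap A B (a k)
  have htJ : ∀ k, t k ∈ J := by
    intro k
    rw [← Ideal.Quotient.eq_zero_iff_mem, map_sub, ← ha k, RingHom.comp_apply, sub_self]
  have ht : IsEtaleCoord A t := isEtaleCoord_of_basis t hx.basis (fun i => by
    rw [hx.basis_apply]
    simp [t])
  have hind : ∀ P : Ideal B, P.IsPrime → J ≤ P → ∀ c : Fin d → B, ∑ i, c i * t i ∈ P * J →
      ∀ i, c i ∈ P := by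
    intro P hP hJP c hc k
    have h1 : ∀ y ∈ P * J, ht.pd k y ∈ P := by
      intro y hy
      refine Submodule.mul_induction_on hy ?_ ?_
      · intro m hm n hn
        rw [Derivation.leibniz, smul_eq_mul, smul_eq_mul]
        exact add_mem (Ideal.mul_mem_right _ _ hm) (Ideal.mul_mem_right _ _ (hJP hn))
      · intro y z hy hz
        rw [map_add]
        exact add_mem hy hz
    have h2 := h1 _ hc
    rw [map_sum] at h2
    have h3 : ∀ i, ht.pd k (c i * t i) = (if k = i then c i else 0) + t i * ht.pd k (c i) := by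
      intro i
      rw [Derivation.leibniz, smul_eq_mul, smul_eq_mul, ht.pd_coord]
      split_ifs <;> simp
    simp only [h3] at h2
    rw [Finset.sum_add_distrib, Finset.sum_ite_eq, if_pos (Finset.mem_univ k)] at h2
    have h4 : ∑ i, t i * ht.pd k (c i) ∈ P :=
      sum_mem fun i _ => Ideal.mul_mem_right _ _ (hJP (htJ i))
    have h5 := sub_mem h2 h4
    rwa [add_sub_cancel_right] at h5
  let K : Ideal B := Ideal.span (Set.range t)
  have hKJ : K ≤ J := Ideal.span_le.2 (by rintro _ ⟨i, rfl⟩; exact htJ i)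
  let D := B ⧸ K
  have het : Algebra.Etale A D := RingHom.etale_algebraMap.1 (ht.etale_quotient K rfl)
  have hJD : SIdeal S (J.map (Ideal.Quotient.mk K)) :=
    SIdealOps.quotient hS hq d hJ t htJ hind (Ideal.Quotient.mk K) Ideal.Quotient.mk_surjective
      Ideal.mk_ker
  have h6 : (J.map (Ideal.Quotient.mk K)).comap (Ideal.Quotient.mk K) = J := by
    rw [Ideal.comap_map_of_surjective' _ Ideal.Quotient.mk_surjective, Ideal.mk_ker]
    exact sup_eq_left.2 hKJ
  have h7 := SliceDesc.of_etale (A := A) hS (J.map (Ideal.Quotient.mk K)) ?_ hJD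
  · have h8 : (J.map (Ideal.Quotient.mk K)).comap (algebraMap A D) = J.comap (algebraMap A B) := by
      rw [IsScalarTower.algebraMap_eq A B D, ← Ideal.comap_comap]
      congr 1
    rwa [h8] at h7
  · intro y
    obtain ⟨y, rfl⟩ := Ideal.Quotient.mk_surjective y
    obtain ⟨b, rfl⟩ := Ideal.Quotient.mk_surjective y
    obtain ⟨a', ha'⟩ := hsurj (Ideal.Quotient.mk J b)
    refine ⟨a', ?_⟩
    rw [RingHom.comp_apply, Ideal.Quotient.eq] at ha' ⊢
    have := Ideal.mem_map_of_mem (Ideal.Quotient.mk K) ha'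
    rwa [map_sub] at this

/-- Standard smooth ring maps. -/
theorem of_standardSmooth (hS : Good S) (hq : SeqQuot.Quot S) {A B : Type u} [CommRing A]
    [CommRing B] (φ : A →+* B) (hφ : φ.IsStandardSmooth) (J : Ideal B)
    (hsurj : Function.Surjective ((Ideal.Quotient.mk J).comp φ))
    (hJ : SIdeal S J) : SIdeal S (J.comap φ) := by
  obtain ⟨n, g, hg, het⟩ := hφ.exists_etale_mvPolynomial
  let := φ.toAlgebra
  have hx : IsEtaleCoord A (fun i => g (MvPolynomial.X i) : Fin n → B) := by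
    have : (MvPolynomial.aeval (fun i => g (MvPolynomial.X i)) :
        MvPolynomial (Fin n) A →ₐ[A] B).toRingHom = g := by
      refine MvPolynomial.ringHom_ext (fun a => ?_) (fun i => ?_)
      · have h1 : g (MvPolynomial.C a) = φ a := congrArg (fun f : A →+* B => f a) hg
        rw [h1]
        exact MvPolynomial.aeval_C _ a
      · exact MvPolynomial.aeval_X _ i
    rw [IsEtaleCoord, this]
    exact het
  exact of_coord hS hq hx J hsurj hJ

lemma appLE_of_eq {X Y : Scheme.{u}} (i : Y ⟶ X) {V : X.Opens} (hV : IsAffineOpen V)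
    (hcl : IsClosedImmersion (i ∣_ V)) {W : Y.Opens} (hW : i ⁻¹ᵁ V = W) :
    Function.Surjective (i.appLE V W hW.ge).hom ∧
      RingHom.ker (i.appLE V W hW.ge).hom = RingHom.ker (i.app V).hom := by
  subst hW
  rw [Scheme.Hom.appLE_eq_app]
  exact ⟨app_surjective hV hcl, rfl⟩

theorem sAt_of_smooth (hS : Good S) (hq : SeqQuot.Quot S) {X Y T : Scheme.{u}} (p : X ⟶ T) [Smooth p]
    (i : Y ⟶ X) (j : Y ⟶ T) [IsImmersion i] [IsImmersion j] (h : i ≫ p = j)
    (hi : ∀ y, SAt S i (i y)) (y : Y) : SAt S j (j y) := by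
  obtain ⟨U₀, hU₀, V₀, hV₀, hyV₀, e₀, hst⟩ := Smooth.exists_isStandardSmooth p (i y)
  -- shrink upstairs
  obtain ⟨V', hyV', hV'V₀, hclV'⟩ := exists_affine (i := i) y V₀ hyV₀
  obtain ⟨g, hgV', hyg⟩ := hV₀.exists_basicOpen_le (V := V'.1) ⟨i y, hyV'⟩ hyV₀
  replace hyg : i y ∈ X.basicOpen g := hyg
  let V₁ := X.basicOpen g
  have hV₁ : IsAffineOpen V₁ := hV₀.basicOpen g
  have hV₁V₀ : V₁ ≤ V₀ := X.basicOpen_le g
  have hcl₁ : IsClosedImmersion (i ∣_ V₁) := isClosedImmersion_restrict_of_le hgV' hclV'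
  have e₁ : V₁ ≤ p ⁻¹ᵁ U₀ := hV₁V₀.trans e₀
  have hst₁ : (p.appLE U₀ V₁ e₁).hom.IsStandardSmooth := by
    have := hV₀.isLocalization_basicOpen g
    have h1 := RingHom.isStandardSmooth_stableUnderCompositionWithLocalizationAway.2
      Γ(X, V₁) g _ hst
    have h2 : p.appLE U₀ V₁ e₁ = p.appLE U₀ V₀ e₀ ≫ X.presheaf.map (homOfLE hV₁V₀).op := by
      rw [Scheme.Hom.appLE_map]
    rw [h2]
    exact h1
  -- shrink downstairs
  have hjy : j y = p (i y) := by rw [← h, Scheme.Hom.comp_apply]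
  obtain ⟨N, hNV₁⟩ : ∃ N : T.Opens, j ⁻¹ᵁ N = i ⁻¹ᵁ V₁ := by
    obtain ⟨N, hN⟩ := (j.isEmbedding.isOpen_iff).1 (i ⁻¹ᵁ V₁).2
    exact ⟨⟨N, hN.1⟩, TopologicalSpace.Opens.ext hN.2⟩
  have hyN : j y ∈ N := by
    have : y ∈ j ⁻¹ᵁ N := by
      rw [hNV₁]
      exact hyg
    exact this
  have hyU₀ : j y ∈ U₀ := by
    rw [hjy]
    exact e₀ hyV₀
  obtain ⟨U', hyU', hU'N, hclU'⟩ := exists_affine (i := j) y (N ⊓ U₀) ⟨hyN, hyU₀⟩
  obtain ⟨f, hfU', hyf⟩ := hU₀.exists_basicOpen_le (V := U'.1) ⟨j y, hyU'⟩ hyU₀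
  replace hyf : j y ∈ T.basicOpen f := hyf
  let U₂ := T.basicOpen f
  let V₂ := X.basicOpen (p.appLE U₀ V₁ e₁ f)
  have hU₂ : IsAffineOpen U₂ := hU₀.basicOpen f
  have hV₂ : IsAffineOpen V₂ := hV₁.basicOpen _
  have hV₂e : V₂ = V₁ ⊓ p ⁻¹ᵁ U₂ := Scheme.basicOpen_appLE p V₁ U₀ e₁ f
  have hpre : i ⁻¹ᵁ V₂ = j ⁻¹ᵁ U₂ := by
    rw [hV₂e, Scheme.Hom.preimage_inf, ← hNV₁, ← Scheme.Hom.comp_preimage, h]
    exact inf_eq_right.2 fun z hz => (hU'N (hfU' hz)).1
  have hclj : IsClosedImmersion (j ∣_ U₂) := isClosedImmersion_restrict_of_le hfU' hclU'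
  have hcli : IsClosedImmersion (i ∣_ V₂) :=
    isClosedImmersion_restrict_of_le (X.basicOpen_le _) hcl₁
  have e₂ : V₂ ≤ p ⁻¹ᵁ U₂ := by
    rw [hV₂e]
    exact inf_le_right
  have hst₂ : (p.appLE U₂ V₂ e₂).hom.IsStandardSmooth := by
    have h1 := IsAffineOpen.appLE_eq_away_map p hU₀ hV₁ e₁ f
    have := hU₀.isLocalization_basicOpen f
    have := hV₁.isLocalization_basicOpen (p.appLE U₀ V₁ e₁ f)
    change (p.appLE (T.basicOpen f) (X.basicOpen (p.appLE U₀ V₁ e₁ f)) e₂).hom.IsStandardSmooth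
    rw [h1]
    exact RingHom.isStandardSmooth_localizationPreserves.away _ _ _ _ hst₁
  obtain ⟨hsi, hki⟩ := appLE_of_eq i hV₂ hcli hpre
  have hsj := app_surjective hU₂ hclj
  have hcomp : p.appLE U₂ V₂ e₂ ≫ i.appLE V₂ (j ⁻¹ᵁ U₂) hpre.ge = j.app U₂ := by
    rw [Scheme.Hom.appLE_comp_appLE, ← Scheme.Hom.appLE_eq_app]
    congr 1
  have hcomp' : ∀ a, (i.appLE V₂ (j ⁻¹ᵁ U₂) hpre.ge).hom ((p.appLE U₂ V₂ e₂).hom a) =
      (j.app U₂).hom a := by
    intro a
    rw [← hcomp]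
    rfl
  have hI : SIdeal S (RingHom.ker (i.app V₂).hom) := sIdeal_of_sAt hS.flat hi hV₂ hcli
  rw [← hki] at hI
  have h3 := of_standardSmooth hS hq (p.appLE U₂ V₂ e₂).hom hst₂ _ (by
    intro z
    obtain ⟨z, rfl⟩ := Ideal.Quotient.mk_surjective z
    obtain ⟨a, ha⟩ := hsj ((i.appLE V₂ (j ⁻¹ᵁ U₂) hpre.ge).hom z)
    refine ⟨a, ?_⟩
    rw [RingHom.comp_apply, Ideal.Quotient.eq, RingHom.mem_ker, map_sub, hcomp', ha, sub_self]) hI
  have h4 : (RingHom.ker (i.appLE V₂ (j ⁻¹ᵁ U₂) hpre.ge).hom).comap (p.appLE U₂ V₂ e₂).hom =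
      RingHom.ker (j.app U₂).hom := by
    ext a
    rw [Ideal.mem_comap, RingHom.mem_ker, RingHom.mem_ker, hcomp']
  rw [h4] at h3
  exact sAt_of_sIdeal hS.flat hU₂ hclj h3 y hyf

end K470.SliceSmooth
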