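import Groth.Agent.Fga.IntegralSub
import Mathlib.AlgebraicGeometry.Morphisms.ClosedImmersion
import Mathlib.AlgebraicGeometry.Morphisms.Proper
import Mathlib.AlgebraicGeometry.FunctionField

/-!
# Modifications of integral schemes

* `exists_lift`: a morphism from an integral scheme factors through a closed immersion if its generic point does.
* `exists_of_section`: `π : P ⟶ X` proper over an integral scheme, with a section over a nonempty open `V`: the closure
  of the section is a modification of `X`, an isomorphism over `V`.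
* `isIso_comp`: composites of modifications are modifications.
-/

set_option autoImplicit false
universe u

open CategoryTheory CategoryTheory.Limits AlgebraicGeometry TopologicalSpace

namespace K470.Modif

/-- A morphism from an integral scheme factors through a closed immersion as soon as its generic point does. -/
theorem exists_lift {V W T : Scheme.{u}} (i : W ⟶ T) [IsClosedImmersion i] (γ : V ⟶ T) [IsIntegral V]
    (h : γ (genericPoint V) ∈ Set.range i) : ∃ σ : V ⟶ W, σ ≫ i = γ := by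
  obtain ⟨w, hw⟩ := h
  have hsurj : Surjective (pullback.snd i γ) := by
    constructor
    rw [← Set.range_eq_univ, Set.eq_univ_iff_forall]
    intro y
    have hcl : IsClosed (Set.range (pullback.snd i γ)) :=
      (pullback.snd i γ).isClosedEmbedding.isClosed_range
    obtain ⟨p, -, hp⟩ := Scheme.Pullback.exists_preimage_pullback w (genericPoint V) hw
    exact (genericPoint_specializes y).mem_closed hcl ⟨p, hp⟩
  have hiso : IsIso (pullback.snd i γ) := isIso_of_isClosedImmersion_of_surjective _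
  refine ⟨inv (pullback.snd i γ) ≫ pullback.fst i γ, ?_⟩
  rw [Category.assoc, pullback.condition, IsIso.inv_hom_id_assoc]

/-- Closure of a rational section. -/
theorem exists_of_section {X P : Scheme.{u}} [IsIntegral X] (π : P ⟶ X) [IsSeparated π] (V : X.Opens)
    (hV : (V : Set X).Nonempty) (γ : (V : Scheme.{u}) ⟶ P) (hγ : γ ≫ π = V.ι) :
    ∃ (X₁ : Scheme.{u}) (i : X₁ ⟶ P) (_ : IsIntegral X₁) (_ : IsClosedImmersion i), IsIso ((i ≫ π) ∣_ V) := by
  have hVne : Nonempty V := hV.to_subtype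
  have hVint : IsIntegral V := inferInstance
  obtain ⟨W₁, i, hi, hW₁, hiz, hr⟩ := Groth.Agent.Fga.IntegralSub.exists_integral_closed (γ (genericPoint V))
  obtain ⟨σ, hσ⟩ := exists_lift i γ (by rw [hr]; exact subset_closure rfl)
  let p : W₁ ⟶ X := i ≫ π
  have hσp : σ ≫ p = V.ι := by
    change σ ≫ i ≫ _ = _
    rw [← Category.assoc, hσ, hγ]
  have hση : σ (genericPoint V) = genericPoint W₁ := by
    apply i.isClosedEmbedding.injective
    rw [hiz, ← Scheme.Hom.comp_apply, hσ]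
  have hpη : p (genericPoint W₁) ∈ V := by
    rw [← hση, ← Scheme.Hom.comp_apply, hσp]
    exact (genericPoint V).2
  refine ⟨W₁, i, hW₁, hi, ?_⟩
  have hrange : Set.range σ ⊆ Set.range (p ⁻¹ᵁ V).ι := by
    rintro _ ⟨y, rfl⟩
    rw [Scheme.Opens.range_ι]
    change p (σ y) ∈ V
    rw [← Scheme.Hom.comp_apply, hσp]
    exact y.2
  let τ : (V : Scheme.{u}) ⟶ (p ⁻¹ᵁ V : W₁.Opens) := IsOpenImmersion.lift (p ⁻¹ᵁ V).ι σ hrange
  have hτ : τ ≫ (p ⁻¹ᵁ V).ι = σ := IsOpenImmersion.lift_fac _ _ _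
  have hτp : τ ≫ (p ∣_ V) = 𝟙 _ := by
    rw [← cancel_mono V.ι, Category.assoc, morphismRestrict_ι, ← Category.assoc, hτ, hσp,
      Category.id_comp]
  have hcl : IsClosedImmersion (τ ≫ (p ∣_ V)) := by rw [hτp]; infer_instance
  have hcl' : IsClosedImmersion τ := IsClosedImmersion.of_comp τ (p ∣_ V)
  have hne' : Nonempty (p ⁻¹ᵁ V : W₁.Opens) := ⟨⟨_, hpη⟩⟩
  have hint : IsIntegral (p ⁻¹ᵁ V : W₁.Opens) := inferInstance
  have hgen : τ (genericPoint V) = genericPoint (p ⁻¹ᵁ V : W₁.Opens) := by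
    apply (p ⁻¹ᵁ V).ι.isOpenEmbedding.injective
    rw [← Scheme.Hom.comp_apply, hτ, hση]
    exact (genericPoint_eq_of_isOpenImmersion (p ⁻¹ᵁ V).ι).symm
  have hsurj : Surjective τ := by
    constructor
    rw [← Set.range_eq_univ, Set.eq_univ_iff_forall]
    intro y
    exact (genericPoint_specializes y).mem_closed τ.isClosedEmbedding.isClosed_range ⟨_, hgen⟩
  have hτiso : IsIso τ := isIso_of_isClosedImmersion_of_surjective _
  have : p ∣_ V = inv τ := by rw [← cancel_epi τ, hτp, IsIso.hom_inv_id]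
  rw [this]
  infer_instance

theorem isIso_morphismRestrict_of_le {X Y : Scheme.{u}} (f : X ⟶ Y) {U V : Y.Opens} (h : V ≤ U) [IsIso (f ∣_ U)] :
    IsIso (f ∣_ V) := by
  have h1 : IsPullback (f ∣_ V) (f ⁻¹ᵁ V).ι V.ι f := isPullback_morphismRestrict f V
  have h2 : IsPullback (f ∣_ U) (f ⁻¹ᵁ U).ι U.ι f := isPullback_morphismRestrict f U
  have h3 : IsPullback (X.homOfLE (show f ⁻¹ᵁ V ≤ f ⁻¹ᵁ U from fun x hx => h hx)) (f ∣_ V) (f ∣_ U) (Y.homOfLE h) := by
    refine IsPullback.of_right ?_ ?_ h2.flip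
    · simpa using h1.flip
    · rw [← cancel_mono U.ι]
      simp
  exact MorphismProperty.of_isPullback (P := MorphismProperty.isomorphisms Scheme) h3 ‹_›

/-- Composites of modifications. -/
theorem exists_isIso_comp {X Y Z : Scheme.{u}} [IrreducibleSpace Y] (f : Y ⟶ X) (g : Z ⟶ Y)
    (U : X.Opens) (hU : (U : Set X).Nonempty) [IsIso (f ∣_ U)] (V : Y.Opens) (hV : (V : Set Y).Nonempty)
    [IsIso (g ∣_ V)] : ∃ W : X.Opens, (W : Set X).Nonempty ∧ IsIso ((g ≫ f) ∣_ W) := by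
  let W₀ : (U : Scheme.{u}).Opens := (inv (f ∣_ U)) ⁻¹ᵁ ((f ⁻¹ᵁ U).ι ⁻¹ᵁ V)
  let W : X.Opens := U.ι ''ᵁ W₀
  have hWU : W ≤ U := U.ι_image_le W₀
  have hWV : f ⁻¹ᵁ W ≤ V := by
    intro y hy
    obtain ⟨w, hw, hwy⟩ := hy
    have hyU : y ∈ f ⁻¹ᵁ U := hWU ⟨w, hw, hwy⟩
    let y' : (f ⁻¹ᵁ U : Y.Opens) := ⟨y, hyU⟩
    have h1 : (f ∣_ U) y' = w := by
      apply U.ι.isOpenEmbedding.injective
      rw [← Scheme.Hom.comp_apply, morphismRestrict_ι, Scheme.Hom.comp_apply]
      exact hwy.symm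
    have h2 : (inv (f ∣_ U)) w = y' := by
      rw [← h1, ← Scheme.Hom.comp_apply, IsIso.hom_inv_id]
      rfl
    have h3 : (inv (f ∣_ U)) w ∈ (f ⁻¹ᵁ U).ι ⁻¹ᵁ V := hw
    rw [h2] at h3
    exact h3
  refine ⟨W, ?_, ?_⟩
  · have h1 : ((f ⁻¹ᵁ U : Y.Opens) : Set Y).Nonempty := by
      obtain ⟨x, hx⟩ := hU
      exact ⟨(inv (f ∣_ U) ⟨x, hx⟩).1, ((inv (f ∣_ U)) ⟨x, hx⟩).2⟩
    obtain ⟨y, hy1, hy2⟩ := nonempty_preirreducible_inter (f ⁻¹ᵁ U).isOpen V.isOpen h1 hV
    refine ⟨U.ι ((f ∣_ U) ⟨y, hy1⟩), _, ?_, rfl⟩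
    change (inv (f ∣_ U)) ((f ∣_ U) ⟨y, hy1⟩) ∈ (f ⁻¹ᵁ U).ι ⁻¹ᵁ V
    rw [← Scheme.Hom.comp_apply, IsIso.hom_inv_id]
    exact hy2
  · have h1 : IsIso (f ∣_ W) := isIso_morphismRestrict_of_le f hWU
    have h2 : IsIso (g ∣_ (f ⁻¹ᵁ W)) := isIso_morphismRestrict_of_le g hWV
    rw [morphismRestrict_comp]
    exact @IsIso.comp_isIso _ _ _ _ _ _ _ h2 h1

end K470.Modif
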