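import Groth.Agent.RegImm.K559.KindsDesc
import Groth.Agent.EGA41.K104.QuasiReg
import Groth.Agent.CalgB.QuasiRegularAppend
import Groth.Agent.AlgSp.K637.SeqFlat

/-!
# Dividing by the first term of an `H_1`-regular or quasi-regular sequence
-/

set_option autoImplicit false
universe u

open MvPolynomial
open Groth.Agent.CalgB.QuasiRegularAppend (isH1Regular_mk_iff trivRel)
open K637.SeqFlat (isQuasiRegular_iff)

namespace K470.SeqQuot

/-- The remaining terms form an `S`-sequence modulo the first one. -/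
def Quot (S : ∀ (R : Type u) [CommRing R], List R → Prop) : Prop :=
  ∀ (A : Type u) [CommRing A] (a : A) (l : List A), S A (a :: l) →
    S (A ⧸ Ideal.span {a}) (l.map (Ideal.Quotient.mk (Ideal.span {a})))

variable {A : Type u} [CommRing A]

lemma h1_aux {n : ℕ} (a : A) (g : Fin n → A) (v : Fin (n + 1) → A)
    (hv : v ∈ trivRel (Fin.cons a g : Fin (n + 1) → A)) :
    ∃ t ∈ trivRel g, ∀ i, v (Fin.succ i) - t i ∈ Ideal.span {a} := by
  induction hv using Submodule.span_induction with
  | mem v hv =>
    obtain ⟨i, j, rfl⟩ := hv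
    refine Fin.cases ?_ (fun i => ?_) i
    · refine Fin.cases ?_ (fun j => ?_) j
      · exact ⟨0, zero_mem _, fun l => by simp⟩
      · refine ⟨0, zero_mem _, fun l => ?_⟩
        rw [Pi.sub_apply, Pi.zero_apply, sub_zero]
        refine Ideal.sub_mem _ ?_ ?_
        · rw [Pi.single_eq_of_ne (by simp)]
          exact zero_mem _
        · by_cases hlj : l = j
          · subst hlj
            simp [Ideal.mem_span_singleton_self]
          · rw [Pi.single_eq_of_ne (by simpa using hlj)]
            exact zero_mem _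
    · refine Fin.cases ?_ (fun j => ?_) j
      · refine ⟨0, zero_mem _, fun l => ?_⟩
        rw [Pi.sub_apply, Pi.zero_apply, sub_zero]
        refine Ideal.sub_mem _ ?_ ?_
        · by_cases hlj : l = i
          · subst hlj
            simp [Ideal.mem_span_singleton_self]
          · rw [Pi.single_eq_of_ne (by simpa using hlj)]
            exact zero_mem _
        · rw [Pi.single_eq_of_ne (by simp)]
          exact zero_mem _
      · refine ⟨Pi.single i (g j) - Pi.single j (g i), Submodule.subset_span ⟨i, j, rfl⟩,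
          fun l => ?_⟩
        have hs : ∀ (k : Fin n) (r : A), (Pi.single (Fin.succ k) r : Fin (n + 1) → A) (Fin.succ l) =
            (Pi.single k r : Fin n → A) l := by
          intro k r
          by_cases hkl : l = k
          · subst hkl; simp
          · rw [Pi.single_eq_of_ne hkl, Pi.single_eq_of_ne (by simpa using hkl)]
        simp only [Pi.sub_apply, Fin.cons_succ, hs, sub_self, zero_mem]
  | zero => exact ⟨0, zero_mem _, fun l => by simp⟩
  | add v w _ _ hv hw =>
    obtain ⟨t, ht, htv⟩ := hv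
    obtain ⟨s, hs, hsw⟩ := hw
    refine ⟨t + s, add_mem ht hs, fun i => ?_⟩
    have := add_mem (htv i) (hsw i)
    rw [Pi.add_apply, Pi.add_apply]
    convert this using 1
    ring
  | smul r v _ hv =>
    obtain ⟨t, ht, htv⟩ := hv
    refine ⟨r • t, Submodule.smul_mem _ _ ht, fun i => ?_⟩
    have := Ideal.mul_mem_left (Ideal.span {a}) r (htv i)
    rw [Pi.smul_apply, Pi.smul_apply]
    convert this using 1
    simp only [smul_eq_mul]
    ring

theorem h1_cons {n : ℕ} (a : A) (g : Fin n → A)
    (h : CAlgX.IsH1Regular (Fin.cons a g : Fin (n + 1) → A)) :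
    CAlgX.IsH1Regular (fun i => Ideal.Quotient.mk (Ideal.span {a}) (g i)) := by
  rw [isH1Regular_mk_iff]
  intro c hc
  obtain ⟨b, hb⟩ := Ideal.mem_span_singleton'.1 hc
  have h1 := h (Fin.cons (-b) c) (by
    rw [Fin.sum_univ_succ]
    simp only [Fin.cons_zero, Fin.cons_succ]
    rw [← hb]
    ring)
  obtain ⟨t, ht, h2⟩ := h1_aux a g _ h1
  exact ⟨t, ht, fun i => by simpa using h2 i⟩

lemma exists_hom_lift {n c : ℕ} (I : Ideal A) (P : MvPolynomial (Fin c) (A ⧸ I))
    (hP : P.IsHomogeneous n) : ∃ Q : MvPolynomial (Fin c) A, Q.IsHomogeneous n ∧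
      map (Ideal.Quotient.mk I) Q = P := by
  choose s hs using Ideal.Quotient.mk_surjective (I := I)
  refine ⟨∑ d ∈ P.support, monomial d (s (P.coeff d)), ?_, ?_⟩
  · refine IsHomogeneous.sum _ _ _ fun d hd => ?_
    refine isHomogeneous_monomial _ ?_
    exact (DFunLike.congr_fun (Finsupp.degree_eq_weight_one (R := ℕ)) d).trans
      (hP (mem_support_iff.1 hd))
  · rw [map_sum]
    simp only [map_monomial, hs]
    exact P.support_sum_monomial_coeff

theorem q_cons {n : ℕ} (a : A) (g : Fin n → A)
    (h : CAlgX.IsQuasiRegular (Fin.cons a g : Fin (n + 1) → A)) :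
    CAlgX.IsQuasiRegular (fun i => Ideal.Quotient.mk (Ideal.span {a}) (g i)) := by
  rw [isQuasiRegular_iff]
  intro m P hP h0 d
  obtain ⟨Q, hQ, rfl⟩ := exists_hom_lift _ P hP
  have h1 : eval g Q ∈ Ideal.span {a} := by
    rw [← Ideal.Quotient.eq_zero_iff_mem, ← h0, eval_map]
    exact eval₂_comp (Ideal.Quotient.mk (Ideal.span {a})) g Q
  obtain ⟨b, hb⟩ := Ideal.mem_span_singleton'.1 h1
  have hgle : Ideal.span (Set.range g) ≤ Ideal.span (Set.range (Fin.cons a g : Fin (n + 1) → A)) := by
    refine Ideal.span_mono ?_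
    rintro _ ⟨i, rfl⟩
    exact ⟨i.succ, by simp⟩
  have hle : ∀ x ∈ Ideal.span (Set.range (Fin.cons a g : Fin (n + 1) → A)),
      Ideal.Quotient.mk (Ideal.span {a}) x ∈
        Ideal.span (Set.range fun i => Ideal.Quotient.mk (Ideal.span {a}) (g i)) := by
    intro x hx
    have h2 := Ideal.mem_map_of_mem (Ideal.Quotient.mk (Ideal.span {a})) hx
    rw [Ideal.map_span] at h2
    refine Ideal.span_le.2 ?_ h2
    rintro _ ⟨_, ⟨i, rfl⟩, rfl⟩
    refine Fin.cases ?_ (fun i => ?_) i
    · have : Ideal.Quotient.mk (Ideal.span {a}) a = 0 :=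
        Ideal.Quotient.eq_zero_iff_mem.2 (Ideal.mem_span_singleton_self a)
      simp [this]
    · exact Ideal.subset_span ⟨i, by simp⟩
  rw [coeff_map]
  obtain rfl | ⟨m, rfl⟩ : m = 0 ∨ ∃ k, m = k + 1 := by
    cases m with
    | zero => exact Or.inl rfl
    | succ k => exact Or.inr ⟨k, rfl⟩
  · -- constants
    have h2 : Q = C (Q.coeff 0) := by
      rw [← totalDegree_eq_zero_iff_eq_C]
      exact Nat.le_zero.1 hQ.totalDegree_le
    rw [h2, eval_map, eval₂_C] at h0
    by_cases hd : d = 0
    · subst hd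
      rw [h0]
      exact zero_mem _
    · rw [h2, coeff_C, if_neg (Ne.symm hd), map_zero]
      exact zero_mem _
  · have h2 : eval g Q ∈ Ideal.span (Set.range (Fin.cons a g : Fin (n + 1) → A)) ^ (m + 1) :=
      Ideal.pow_right_mono hgle _ ((Ideal.mem_span_pow_iff_exists_isHomogeneous g _).2 ⟨Q, hQ, rfl⟩)
    have h3 := K104.QuasiReg.mem_pow_of_mul_mem h 0 m b (by
      rw [Fin.cons_zero, mul_comm, hb]
      exact h2)
    obtain ⟨B, hB, hBb⟩ := (Ideal.mem_span_pow_iff_exists_isHomogeneous _ _).1 h3
    have h4 : (rename Fin.succ Q - X 0 * B).IsHomogeneous (m + 1) := by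
      refine IsHomogeneous.sub ?_ ?_
      · exact hQ.rename_isHomogeneous
      · have h6 := (isHomogeneous_X A (0 : Fin (n + 1))).mul hB
        rwa [Nat.add_comm 1 m] at h6
    have h5 := h (m + 1) _ h4 (by
      rw [map_sub, map_mul, eval_X, eval_rename, hBb, Fin.cons_zero]
      have : ((Fin.cons a g : Fin (n + 1) → A) ∘ Fin.succ) = g := by
        ext i
        simp
      rw [this, ← hb, mul_comm, sub_self]
      exact zero_mem _) (d.mapDomain Fin.succ)
    rw [coeff_sub, coeff_rename_mapDomain _ (Fin.succ_injective n), coeff_X_mul', if_neg, sub_zero]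
      at h5
    · exact hle _ h5
    · intro h6
      rw [Finsupp.mem_support_iff, Finsupp.mapDomain_notin_range _ _ (by simp)] at h6
      exact h6 rfl

theorem quot_h1 : Quot.{u} (fun _ _ l => CAlgX.IsH1Regular l.get) := by
  intro A _ a l hl
  rw [K559.KindsDesc.h1_map]
  refine h1_cons a l.get ?_
  refine (K559.KindsDesc.h1_congr (c := (a :: l).length) (d := l.length + 1) rfl _ _ ?_).1 hl
  intro i
  refine Fin.cases ?_ (fun j => ?_) i
  · rfl
  · rfl

theorem quot_q : Quot.{u} (fun _ _ l => CAlgX.IsQuasiRegular l.get) := by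
  intro A _ a l hl
  rw [K559.KindsDesc.q_map]
  refine q_cons a l.get ?_
  refine (K559.KindsDesc.q_congr (c := (a :: l).length) (d := l.length + 1) rfl _ _ ?_).1 hl
  intro i
  refine Fin.cases ?_ (fun j => ?_) i
  · rfl
  · rfl

end K470.SeqQuot
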