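import Groth.Agent.RegImm.K559.GenDesc
import Groth.Agent.SDiv.K470.SeqQuot

/-!
# Ideals locally generated by `S`-sequences: localness, flat base change, dividing by part of the generators
-/

set_option autoImplicit false
universe u

open K559.Gen K559.GenDesc
open Groth.Agent.Flat2H.KoszulIdeal (exists_isLocalization_away_of_away exists_awayMap)

namespace K470.SIdealOps

variable {S : ∀ (R : Type u) [CommRing R], List R → Prop}

/-- Any localization away from `g` may be used. -/
lemma exists_away_of (hS : FlatStable S) {A : Type u} [CommRing A] {I : Ideal A} (g : A)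
    (T : Type u) [CommRing T] [Algebra A T] [IsLocalization.Away g T] {l : List T} (hl : S T l)
    (hI : I.map (algebraMap A T) = Ideal.ofList l) :
    ∃ m : List (Localization.Away g), m.length = l.length ∧ S (Localization.Away g) m ∧
      I.map (algebraMap A (Localization.Away g)) = Ideal.ofList m := by
  let e : T ≃ₐ[A] Localization.Away g := IsLocalization.algEquiv (Submonoid.powers g) _ _
  refine ⟨l.map e, by simp, ?_, ?_⟩
  · exact hS _ _ (e : T →+* Localization.Away g) (RingHom.Flat.of_bijective e.bijective) _ hl
  · have h2 : (algebraMap A (Localization.Away g)) =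
        (e : T →+* Localization.Away g).comp (algebraMap A T) := by
      ext x
      exact (e.commutes x).symm
    rw [h2, ← Ideal.map_map, hI, Ideal.map_ofList]
    rfl

/-- Flat base change. -/
theorem map_flat (hS : Good S) {A B : Type u} [CommRing A] [CommRing B] [Algebra A B]
    [Module.Flat A B] {I : Ideal A} (h : SIdeal S I) : SIdeal S (I.map (algebraMap A B)) := by
  intro P hP hle
  obtain ⟨g, hg, l, hl, hI⟩ := h (P.comap (algebraMap A B)) inferInstance
    (Ideal.map_le_iff_le_comap.1 hle)
  refine ⟨algebraMap A B g, hg, ?_⟩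
  let T := Localization.Away (algebraMap A B g)
  have : Module.Flat A T := Module.Flat.trans A B T
  obtain ⟨m, -, hm, hIm⟩ := map_isUnit hS g hl hI T (by
    rw [IsScalarTower.algebraMap_apply A B T]
    exact IsLocalization.Away.algebraMap_isUnit _)
  exact ⟨m, hm, by rw [Ideal.map_map, ← IsScalarTower.algebraMap_eq, hIm]⟩

/-- Localness. -/
theorem of_local (hS : FlatStable S) {A : Type u} [CommRing A] {I : Ideal A}
    (h : ∀ p : Ideal A, p.IsPrime → I ≤ p → ∃ g : A, g ∉ p ∧
      SIdeal S (I.map (algebraMap A (Localization.Away g)))) : SIdeal S I := by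
  intro p hp hle
  obtain ⟨g, hg, hI⟩ := h p hp hle
  have hdisj : Disjoint (Submonoid.powers g : Set A) (p : Set A) :=
    (Ideal.disjoint_powers_iff_notMem_of_isPrime g).2 hg
  have hp' := IsLocalization.isPrime_of_isPrime_disjoint (Submonoid.powers g)
    (Localization.Away g) p hp hdisj
  obtain ⟨a, ha, l, hl, hIl⟩ := hI _ hp' (Ideal.map_mono hle)
  let T := Localization.Away a
  obtain ⟨g', hg', hT⟩ := exists_isLocalization_away_of_away g (Localization.Away g) p hg a ha T
  obtain ⟨m, -, hm, hIm⟩ := exists_away_of (I := I) hS g' T hl (by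
    rw [← hIl, Ideal.map_map, ← IsScalarTower.algebraMap_eq])
  exact ⟨g', hg', m, hm, hIm⟩

/-- Dividing by the first term, for a surjection. -/
lemma quot_surj (hS : FlatStable S) (hq : SeqQuot.Quot S) {A A' : Type u} [CommRing A] [CommRing A']
    (π : A →+* A') (hπ : Function.Surjective π) (a : A) (hker : RingHom.ker π = Ideal.span {a})
    (l : List A) (hl : S A (a :: l)) : S A' (l.map π) := by
  have h1 := hq A a l hl
  let e : A ⧸ Ideal.span {a} ≃+* A' :=
    (Ideal.quotEquivOfEq hker.symm).trans (RingHom.quotientKerEquivOfSurjective hπ)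
  have h2 := hS _ _ (e : A ⧸ Ideal.span {a} →+* A') (RingHom.Flat.of_bijective e.bijective) _ h1
  rw [List.map_map] at h2
  exact h2

/-- Exchange: a linear combination of `l` with a coefficient outside `q`. -/
lemma exists_decomp {A : Type u} [CommRing A] (q : Ideal A) : ∀ (l : List A) (t : A),
    t ∈ Ideal.ofList l → t ∉ q * Ideal.ofList l → ∃ (l₁ : List A) (x : A) (l₂ : List A) (c : A),
      l = l₁ ++ x :: l₂ ∧ c ∉ q ∧ t - c * x ∈ Ideal.ofList (l₁ ++ l₂)
  | [], t, ht, ht' => by
    rw [Ideal.ofList_nil] at ht
    rw [Ideal.mem_bot] at ht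
    exact absurd (ht ▸ zero_mem _) ht'
  | x :: l, t, ht, ht' => by
    rw [Ideal.ofList_cons, Submodule.mem_sup] at ht
    obtain ⟨y, hy, s, hs, rfl⟩ := ht
    obtain ⟨c, rfl⟩ := Ideal.mem_span_singleton'.1 hy
    by_cases hc : c ∈ q
    · have hs' : s ∉ q * Ideal.ofList l := by
        intro hs'
        refine ht' (add_mem ?_ ?_)
        · exact Ideal.mul_mem_mul hc (Ideal.subset_span (by simp))
        · refine Ideal.mul_mono_right ?_ hs'
          exact Ideal.span_mono fun z hz => List.mem_cons_of_mem x hz
      obtain ⟨l₁, z, l₂, c', rfl, hc', h⟩ := exists_decomp q l s hs hs'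
      refine ⟨x :: l₁, z, l₂, c', rfl, hc', ?_⟩
      rw [add_sub_assoc, List.cons_append, Ideal.ofList_cons]
      exact Submodule.add_mem_sup (Ideal.mul_mem_left _ _ (Ideal.mem_span_singleton_self x)) h
    · refine ⟨[], x, l, c, rfl, hc, ?_⟩
      simpa using hs

lemma ofList_exchange {A : Type u} [CommRing A] {l₁ l₂ : List A} {x t c : A} (hc : IsUnit c)
    (h : t - c * x ∈ Ideal.ofList (l₁ ++ l₂)) :
    Ideal.ofList (t :: (l₁ ++ l₂)) = Ideal.ofList (l₁ ++ x :: l₂) := by
  have h0 : Ideal.ofList (l₁ ++ x :: l₂) = Ideal.ofList (x :: (l₁ ++ l₂)) := by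
    rw [Ideal.ofList_append, Ideal.ofList_cons, Ideal.ofList_cons, Ideal.ofList_append,
      sup_left_comm]
  rw [h0, Ideal.ofList_cons, Ideal.ofList_cons]
  apply le_antisymm
  · refine sup_le ?_ le_sup_right
    rw [Ideal.span_singleton_le_iff_mem]
    have : t = c * x + (t - c * x) := by ring
    rw [this]
    exact Submodule.add_mem_sup (Ideal.mul_mem_left _ _ (Ideal.mem_span_singleton_self x)) h
  · refine sup_le ?_ le_sup_right
    rw [Ideal.span_singleton_le_iff_mem, ← Ideal.unit_mul_mem_iff_mem _ hc]
    have : c * x = t - (t - c * x) := by ring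
    rw [this]
    exact sub_mem (Ideal.mem_sup_left (Ideal.mem_span_singleton_self t)) (Ideal.mem_sup_right h)

/-- Exchange in arbitrary rings. -/
lemma exchange (hS : Good S) {A : Type u} [CommRing A] {l m : List A} (hl : S A l)
    (h : Ideal.ofList m = Ideal.ofList l) (hlen : m.length = l.length) : S A m := by
  refine hS.loc A m fun Q hQ hle => ?_
  refine hS.exch _ (l.map (algebraMap A (Localization.AtPrime Q))) _ ?_ ?_ ?_ (by simpa using hlen)
  · exact hS.flat _ _ (algebraMap A (Localization.AtPrime Q))
      ((RingHom.flat_algebraMap_iff).2 inferInstance) _ hl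
  · rw [← Ideal.map_ofList, ← Ideal.map_ofList, h]
  · rw [← Ideal.map_ofList, ← h, Ideal.map_le_iff_le_comap]
    exact hle.trans (IsLocalization.AtPrime.under_maximalIdeal (Localization.AtPrime Q) Q).ge

/-- Dividing by one element which is everywhere part of a minimal system of generators. -/
theorem one_step (hS : Good S) (hq : SeqQuot.Quot S) {B D : Type u} [CommRing B] [CommRing D]
    {J : Ideal B} (hJ : SIdeal S J) (t : B) (ht : t ∈ J)
    (hind : ∀ P : Ideal B, P.IsPrime → J ≤ P → ∀ c : B, c * t ∈ P * J → c ∈ P)
    (φ : B →+* D) (hφ : Function.Surjective φ) (hker : RingHom.ker φ = Ideal.span {t}) :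
    SIdeal S (J.map φ) := by
  intro P' hP' hle
  have hPp : (P'.comap φ).IsPrime := inferInstance
  have hJP : J ≤ P'.comap φ := Ideal.map_le_iff_le_comap.1 hle
  obtain ⟨g, hg, l, hl, hJl⟩ := hJ _ hPp hJP
  let P := P'.comap φ
  let Bg := Localization.Away g
  have h1 : algebraMap B Bg t ∈ Ideal.ofList l := by
    rw [← hJl]
    exact Ideal.mem_map_of_mem _ ht
  have h2 : algebraMap B Bg t ∉ (P.map (algebraMap B Bg)) * Ideal.ofList l := by
    intro h2
    rw [← hJl, ← Ideal.map_mul, IsLocalization.algebraMap_mem_map_algebraMap_iff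
      (Submonoid.powers g)] at h2
    obtain ⟨_, ⟨k, rfl⟩, h3⟩ := h2
    exact hg (hPp.mem_of_pow_mem k (hind P hPp hJP _ h3))
  obtain ⟨l₁, x, l₂, c, rfl, hc, h3⟩ := exists_decomp _ l _ h1 h2
  let T := Localization.Away c
  obtain ⟨g', hg', hT⟩ := exists_isLocalization_away_of_away g Bg P hg c hc T
  let τ := algebraMap Bg T
  -- the exchanged sequence
  have h4 : S T (((l₁ ++ x :: l₂)).map τ) :=
    hS.flat _ _ τ ((RingHom.flat_algebraMap_iff).2 inferInstance) _ hl
  have h5 : Ideal.ofList (algebraMap B T t :: (l₁.map τ ++ l₂.map τ)) =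
      Ideal.ofList (l₁.map τ ++ τ x :: l₂.map τ) := by
    refine ofList_exchange (c := τ c) (IsLocalization.Away.algebraMap_isUnit c) ?_
    have := Ideal.mem_map_of_mem τ h3
    rw [Ideal.map_ofList, List.map_append, map_sub, map_mul] at this
    exact this
  have h6 : S T (algebraMap B T t :: (l₁.map τ ++ l₂.map τ)) := by
    refine exchange hS h4 ?_ ?_
    · rw [h5, List.map_append, List.map_cons]
    · simp
      omega
  have h7 : J.map (algebraMap B T) = Ideal.ofList (algebraMap B T t :: (l₁.map τ ++ l₂.map τ)) := by
    rw [h5, IsScalarTower.algebraMap_eq B Bg T, ← Ideal.map_map, hJl, Ideal.map_ofList,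
      List.map_append, List.map_cons]
  -- transfer to the standard localization
  let e : T ≃ₐ[B] Localization.Away g' := IsLocalization.algEquiv (Submonoid.powers g') _ _
  let r : List (Localization.Away g') := (l₁.map τ ++ l₂.map τ).map e
  have h8 : S (Localization.Away g') (algebraMap B _ t :: r) := by
    have := hS.flat _ _ (e : T →+* Localization.Away g') (RingHom.Flat.of_bijective e.bijective) _ h6
    rw [List.map_cons] at this
    have he : (e : T →+* Localization.Away g') (algebraMap B T t) = algebraMap B _ t := e.commutes t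
    rw [he] at this
    exact this
  have h9 : J.map (algebraMap B (Localization.Away g')) = Ideal.ofList (algebraMap B _ t :: r) := by
    have he : (algebraMap B (Localization.Away g')) =
        (e : T →+* Localization.Away g').comp (algebraMap B T) := by
      ext x
      exact (e.commutes x).symm
    conv_lhs => rw [he, ← Ideal.map_map, h7, Ideal.map_ofList, List.map_cons]
    have he : (e : T →+* Localization.Away g') (algebraMap B T t) = algebraMap B _ t := e.commutes t
    rw [he]
    rfl
  obtain ⟨π, hπ, hkerπ, hcomp⟩ := exists_awayMap φ hφ g'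
  refine ⟨φ g', hg', r.map π, ?_, ?_⟩
  · refine quot_surj hS.flat hq π hπ (algebraMap B _ t) ?_ r h8
    rw [hkerπ, hker, Ideal.map_span, Set.image_singleton]
  · rw [Ideal.map_map, ← hcomp, ← Ideal.map_map, h9, Ideal.map_ofList, List.map_cons]
    have h10 : π (algebraMap B _ t) = 0 := by
      rw [← RingHom.mem_ker, hkerπ]
      refine Ideal.mem_map_of_mem _ ?_
      rw [hker]
      exact Ideal.mem_span_singleton_self t
    rw [h10, Ideal.ofList_cons]
    simp

/-- Dividing by elements which are everywhere part of a minimal system of generators. -/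
theorem quotient (hS : Good S) (hq : SeqQuot.Quot S) : ∀ (d : ℕ) {B D : Type u} [CommRing B]
    [CommRing D] {J : Ideal B} (_ : SIdeal S J) (t : Fin d → B) (_ : ∀ i, t i ∈ J)
    (_ : ∀ P : Ideal B, P.IsPrime → J ≤ P → ∀ c : Fin d → B, ∑ i, c i * t i ∈ P * J → ∀ i, c i ∈ P)
    (φ : B →+* D) (_ : Function.Surjective φ) (_ : RingHom.ker φ = Ideal.span (Set.range t)),
    SIdeal S (J.map φ) := by
  intro d
  induction d with
  | zero =>
    intro B D _ _ J hJ t ht hind φ hφ hker
    have hbij : Function.Bijective φ := by
      refine ⟨?_, hφ⟩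
      rw [RingHom.injective_iff_ker_eq_bot, hker]
      simp
    let := φ.toAlgebra
    have : Module.Flat B D := by
      rw [← RingHom.flat_algebraMap_iff]
      exact RingHom.Flat.of_bijective hbij
    exact map_flat hS hJ
  | succ d ih =>
    intro B D _ _ J hJ t ht hind φ hφ hker
    let a := t 0
    let B' := B ⧸ Ideal.span {a}
    let ψ : B →+* B' := Ideal.Quotient.mk (Ideal.span {a})
    have hψ : Function.Surjective ψ := Ideal.Quotient.mk_surjective
    have hkψ : RingHom.ker ψ = Ideal.span {a} := Ideal.mk_ker
    have h1 : SIdeal S (J.map ψ) := by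
      refine one_step hS hq hJ a (ht 0) ?_ ψ hψ hkψ
      intro P hP hle c hc
      have := hind P hP hle (Pi.single 0 c) (by
        rw [Finset.sum_eq_single 0]
        · simpa using hc
        · intro i _ hi
          rw [Pi.single_eq_of_ne hi, zero_mul]
        · simp) 0
      simpa using this
    have h0 : ∀ x ∈ Ideal.span {a}, φ x = 0 := by
      intro x hx
      rw [← RingHom.mem_ker, hker]
      exact Ideal.span_mono (by rintro _ rfl; exact ⟨0, rfl⟩) hx
    let χ : B' →+* D := Ideal.Quotient.lift _ φ h0
    have hχ : χ.comp ψ = φ := by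
      ext x
      rfl
    have h2 : SIdeal S ((J.map ψ).map χ) := by
      refine ih h1 (fun i => ψ (t i.succ)) (fun i => Ideal.mem_map_of_mem _ (ht _)) ?_ χ ?_ ?_
      · intro P hP hle c hc
        choose c' hc' using fun i => hψ (c i)
        obtain rfl : (fun i => ψ (c' i)) = c := funext hc'
        have h3 : ψ (∑ i, c' i * t i.succ) ∈ P * J.map ψ := by
          rw [map_sum]
          simpa only [map_mul] using hc
        have h4 : P = (P.comap ψ).map ψ := (Ideal.map_comap_of_surjective ψ hψ P).symm
        rw [h4, ← Ideal.map_mul, ← Ideal.mem_comap, Ideal.comap_map_of_surjective' ψ hψ, hkψ,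
          Submodule.mem_sup] at h3
        obtain ⟨y, hy, z, hz, hyz⟩ := h3
        obtain ⟨b, rfl⟩ := Ideal.mem_span_singleton'.1 hz
        have h5 := hind (P.comap ψ) inferInstance (Ideal.map_le_iff_le_comap.1 hle)
          (Fin.cons (-b) c') (by
            rw [Fin.sum_univ_succ]
            simp only [Fin.cons_zero, Fin.cons_succ]
            rw [← hyz]
            have : -b * t 0 + (y + b * a) = y := by
              change -b * t 0 + (y + b * t 0) = y
              ring
            rw [this]
            exact hy)
        intro i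
        exact h5 i.succ
      · intro y
        obtain ⟨x, rfl⟩ := hφ y
        exact ⟨ψ x, rfl⟩
      · have h6 : RingHom.ker χ = (RingHom.ker φ).map ψ := by
          rw [← hχ, ← RingHom.comap_ker, Ideal.map_comap_of_surjective ψ hψ]
        rw [h6, hker, Ideal.map_span, ← Set.range_comp]
        apply le_antisymm
        · rw [Ideal.span_le]
          rintro _ ⟨i, rfl⟩
          refine Fin.cases ?_ (fun i => ?_) i
          · have : ψ (t 0) = 0 := by
              rw [← RingHom.mem_ker, hkψ]
              exact Ideal.mem_span_singleton_self a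
            rw [Function.comp_apply, this]
            exact zero_mem _
          · exact Ideal.subset_span ⟨i, rfl⟩
        · refine Ideal.span_mono ?_
          rintro _ ⟨i, rfl⟩
          exact ⟨i.succ, rfl⟩
    rwa [Ideal.map_map, hχ] at h2

end K470.SIdealOps
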