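import Groth.Agent.SDiv.K470.SIdealOps
import Groth.Agent.CurvesC.NodeEt
import Mathlib.RingTheory.RingHom.Unramified
import Mathlib.RingTheory.Spectrum.Prime.Chevalley
import Mathlib.RingTheory.Flat.FaithfullyFlat.Algebra
import Mathlib.RingTheory.Ideal.IdempotentFG
import Mathlib.RingTheory.Ideal.GoingDown

/-!
# Sections of smooth algebras: the ideal of a closed subscheme of the base from that of its lift
-/

set_option autoImplicit false
universe u

open K559.Gen K559.GenDesc
open Groth.Agent.CurvesC.NodeEt

namespace K470.SliceDesc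

variable {S : ∀ (R : Type u) [CommRing R], List R → Prop}

/-- The kernel of a retraction of an étale map is generated by an idempotent. -/
lemma ker_idempotent {A₀ D₀ E : Type u} [CommRing A₀] [CommRing D₀] [CommRing E] (f₀ : A₀ →+* D₀)
    (g₀ : D₀ →+* E) (hf₀ : f₀.Etale) (hg₀s : Function.Surjective g₀)
    (hbij : Function.Bijective (g₀.comp f₀)) :
    ∃ e : D₀, IsIdempotentElem e ∧ RingHom.ker g₀ = Ideal.span {e} := by
  have hcomp : (g₀.comp f₀).Etale := RingHom.Etale.of_bijective hbij
  algebraize [f₀, g₀, g₀.comp f₀]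
  have h1 : Algebra.FormallyEtale D₀ E := Algebra.FormallyEtale.of_restrictScalars (R := A₀)
  have hidem : IsIdempotentElem (RingHom.ker g₀) :=
    (Algebra.FormallyEtale.iff_of_surjective (R := D₀) (S := E) hg₀s).1 h1
  have hfg : (RingHom.ker g₀).FG := by
    let g₁ : D₀ →ₐ[A₀] E := { g₀ with commutes' := fun r => rfl }
    exact Algebra.FinitePresentation.ker_fG_of_surjective g₁ hg₀s
  exact (Ideal.isIdempotentElem_iff_of_fg _ hfg).1 hidem

/-- An étale algebra with a partial section: near the section the ideals agree. -/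
lemma exists_elt {A D : Type u} [CommRing A] [CommRing D] [Algebra A D] [Algebra.Etale A D]
    (J : Ideal D) (hsurj : Function.Surjective ((Ideal.Quotient.mk J).comp (algebraMap A D))) :
    ∃ g : D, 1 - g ∈ J ∧ ∀ x ∈ J, g * x ∈ (J.comap (algebraMap A D)).map (algebraMap A D) := by
  let I := J.comap (algebraMap A D)
  let ID := I.map (algebraMap A D)
  have hIJ : ID ≤ J := Ideal.map_comap_le
  let A₀ := A ⧸ I
  let D₀ := D ⧸ ID
  let E := D ⧸ J
  let f₀ : A₀ →+* D₀ := Ideal.quotientMap ID (algebraMap A D) Ideal.le_comap_map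
  have hf₀ : f₀.Etale := etale_quotientMap (algebraMap A D)
    (RingHom.etale_algebraMap.2 inferInstance) I ID rfl
  let g₀ : D₀ →+* E := Ideal.Quotient.factor hIJ
  have hg₀s : Function.Surjective g₀ := Ideal.Quotient.factor_surjective hIJ
  have hbij : Function.Bijective (g₀.comp f₀) := by
    constructor
    · rw [injective_iff_map_eq_zero]
      intro a ha
      obtain ⟨a, rfl⟩ := Ideal.Quotient.mk_surjective a
      have h1 : Ideal.Quotient.mk J (algebraMap A D a) = 0 := ha
      rw [Ideal.Quotient.eq_zero_iff_mem] at h1 ⊢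
      exact h1
    · intro y
      obtain ⟨a, ha⟩ := hsurj y
      exact ⟨Ideal.Quotient.mk _ a, ha⟩
  obtain ⟨e, he, hker⟩ := ker_idempotent f₀ g₀ hf₀ hg₀s hbij
  obtain ⟨g, hg⟩ := Ideal.Quotient.mk_surjective (1 - e)
  refine ⟨g, ?_, fun x hx => ?_⟩
  · have h1 : g₀ (Ideal.Quotient.mk ID (1 - g)) = 0 := by
      rw [← RingHom.mem_ker, hker, map_sub, map_one, hg, sub_sub_cancel]
      exact Ideal.mem_span_singleton_self e
    rw [← Ideal.Quotient.eq_zero_iff_mem]
    exact h1
  · have h1 : Ideal.Quotient.mk ID x ∈ RingHom.ker g₀ := by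
      rw [RingHom.mem_ker]
      exact Ideal.Quotient.eq_zero_iff_mem.2 hx
    rw [hker] at h1
    obtain ⟨r, hr⟩ := Ideal.mem_span_singleton'.1 h1
    rw [← Ideal.Quotient.eq_zero_iff_mem, map_mul, hg, ← hr]
    have : (1 - e) * (r * e) = r * (e - e * e) := by ring
    rw [this, he.eq, sub_self, mul_zero]

/-- The étale case. -/
theorem of_etale (hS : Good S) {A D : Type u} [CommRing A] [CommRing D] [Algebra A D]
    [Algebra.Etale A D] (J : Ideal D)
    (hsurj : Function.Surjective ((Ideal.Quotient.mk J).comp (algebraMap A D)))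
    (hJ : SIdeal S J) : SIdeal S (J.comap (algebraMap A D)) := by
  obtain ⟨g, hg1, hg2⟩ := exists_elt J hsurj
  let I := J.comap (algebraMap A D)
  let Dg := Localization.Away g
  have hJI : J.map (algebraMap D Dg) = I.map (algebraMap A Dg) := by
    rw [IsScalarTower.algebraMap_eq A D Dg, ← Ideal.map_map]
    apply le_antisymm
    · rw [Ideal.map_le_iff_le_comap]
      intro x hx
      have h1 := Ideal.mem_map_of_mem (algebraMap D Dg) (hg2 x hx)
      rw [map_mul] at h1
      rw [Ideal.mem_comap]
      exact (Ideal.unit_mul_mem_iff_mem _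
        (IsLocalization.Away.algebraMap_isUnit (S := Dg) g)).1 h1
    · exact Ideal.map_mono Ideal.map_comap_le
  have : Algebra.Etale D Dg := Algebra.Etale.of_isLocalizationAway g
  have : Algebra.Etale A Dg := Algebra.Etale.comp A D Dg
  have hopen : IsOpenMap (PrimeSpectrum.comap (algebraMap A Dg)) :=
    PrimeSpectrum.isOpenMap_comap_of_hasGoingDown_of_finitePresentation
  refine SIdealOps.of_local hS.flat fun q hq hIq => ?_
  -- the point `q` is in the image
  have hmem : (⟨q, hq⟩ : PrimeSpectrum A) ∈ Set.range (PrimeSpectrum.comap (algebraMap A Dg)) := by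
    let ψ : A →+* D ⧸ J := (Ideal.Quotient.mk J).comp (algebraMap A D)
    have hkψ : RingHom.ker ψ = I := by
      rw [← RingHom.comap_ker, Ideal.mk_ker]
    have h1 : (q.map ψ).IsPrime := Ideal.map_isPrime_of_surjective hsurj (by rw [hkψ]; exact hIq)
    have h2 : (q.map ψ).comap ψ = q := by
      rw [Ideal.comap_map_of_surjective' _ hsurj, hkψ]
      exact sup_eq_left.2 hIq
    let P : Ideal D := (q.map ψ).comap (Ideal.Quotient.mk J)
    have hP : P.IsPrime := inferInstance
    have hJP : J ≤ P := by
      intro x hx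
      change Ideal.Quotient.mk J x ∈ q.map ψ
      rw [Ideal.Quotient.eq_zero_iff_mem.2 hx]
      exact zero_mem _
    have hgP : g ∉ P := fun h => hP.ne_top ((Ideal.eq_top_iff_one _).2 (by
      have := add_mem (hJP hg1) h
      rwa [sub_add_cancel] at this))
    obtain ⟨Q, hQ⟩ : (⟨P, hP⟩ : PrimeSpectrum D) ∈
        Set.range (PrimeSpectrum.comap (algebraMap D Dg)) := by
      rw [PrimeSpectrum.localization_away_comap_range Dg g]
      exact hgP
    refine ⟨Q, ?_⟩
    rw [IsScalarTower.algebraMap_eq A D Dg, PrimeSpectrum.comap_comp, Function.comp_apply, hQ]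
    exact PrimeSpectrum.ext h2
  obtain ⟨_, ⟨f, rfl⟩, hfq, hfr⟩ := PrimeSpectrum.isTopologicalBasis_basic_opens.isOpen_iff.1
    hopen.isOpen_range ⟨q, hq⟩ hmem
  refine ⟨f, hfq, ?_⟩
  let Af := Localization.Away f
  let D' := Localization.Away (algebraMap A Dg f)
  have hu : IsUnit (algebraMap A D' f) := by
    rw [IsScalarTower.algebraMap_apply A Dg D']
    exact IsLocalization.Away.algebraMap_isUnit _
  let φ : Af →+* D' := IsLocalization.Away.lift f hu
  let := φ.toAlgebra
  have hφ : φ.comp (algebraMap A Af) = algebraMap A D' := IsLocalization.Away.lift_comp f hu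
  have htow : IsScalarTower A Af D' := IsScalarTower.of_algebraMap_eq' hφ.symm
  have hflD : Module.Flat Dg D' := inferInstance
  have hflADg : Module.Flat A Dg := inferInstance
  have hflAD : Module.Flat A D' := Module.Flat.trans A Dg D'
  have hfl : Module.Flat Af D' :=
    (Module.flat_iff_of_isLocalization Af (Submonoid.powers f) D').2 hflAD
  have hff : Module.FaithfullyFlat Af D' := by
    refine Module.FaithfullyFlat.of_comap_surjective fun q' => ?_
    have hq' : PrimeSpectrum.comap (algebraMap A Af) q' ∈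
        Set.range (PrimeSpectrum.comap (algebraMap A Af)) := ⟨q', rfl⟩
    rw [PrimeSpectrum.localization_away_comap_range Af f] at hq'
    obtain ⟨Q, hQ⟩ := hfr hq'
    have hfQ : algebraMap A Dg f ∉ Q.asIdeal := by
      have : f ∉ (PrimeSpectrum.comap (algebraMap A Dg) Q).asIdeal := by
        rw [hQ]
        exact hq'
      exact this
    obtain ⟨Q', hQ'⟩ : Q ∈ Set.range (PrimeSpectrum.comap (algebraMap Dg D')) := by
      rw [PrimeSpectrum.localization_away_comap_range D' (algebraMap A Dg f)]
      exact hfQ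
    refine ⟨Q', PrimeSpectrum.localization_comap_injective Af (Submonoid.powers f) ?_⟩
    rw [← PrimeSpectrum.comap_comp_apply, ← IsScalarTower.algebraMap_eq A Af D',
      IsScalarTower.algebraMap_eq A Dg D', PrimeSpectrum.comap_comp_apply, hQ', hQ]
  refine K559.GenDesc.descent hS (B := D') ?_
  have h1 : (I.map (algebraMap A Af)).map (algebraMap Af D') = J.map (algebraMap D D') := by
    rw [Ideal.map_map, ← IsScalarTower.algebraMap_eq A Af D', IsScalarTower.algebraMap_eq A Dg D',
      ← Ideal.map_map, ← hJI, Ideal.map_map, ← IsScalarTower.algebraMap_eq D Dg D']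
  change SIdeal S ((I.map (algebraMap A Af)).map (algebraMap Af D'))
  rw [h1]
  have : Module.Flat D D' := Module.Flat.trans D Dg D'
  exact SIdealOps.map_flat hS hJ

end K470.SliceDesc
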